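import Mathlib
import Cfsg.Prelude.Def_Characters
import Cfsg.Agent.Char.Ortho
import Cfsg.Agent.Fg24.PrimeTwoP.Basic
import Cfsg.Agent.PrimeSpherical.Witness

/-!
# Prime degree with a T.I. complement in the Sylow normalizer: elementary facts
-/

set_option autoImplicit false

namespace Cfsg.Agent.UniqueP

open Cfsg.Agent MulAction
open scoped _root_.Classical

universe u

variable {α : Type u} [Fintype α] [DecidableEq α] {p : ℕ} [Fact p.Prime]
  {G : Subgroup (Equiv.Perm α)}

/-- A transitive group of prime degree with a T.I. complement `E` in a Sylow normalizer, whose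
normalizer is twice as large. -/
structure Hyp (P : Sylow p G) (E : Subgroup G) : Prop where
  deg : Fintype.card α = p
  trans : IsPretransitive G α
  sup : (P : Subgroup G) ⊔ E = Subgroup.normalizer ((P : Subgroup G) : Set G)
  inf : (P : Subgroup G) ⊓ E = ⊥
  normCard : Nat.card (Subgroup.normalizer (E : Set G)) = 2 * Nat.card E
  ti : ∀ g : G, g ∉ Subgroup.normalizer (E : Set G) →
    E ⊓ E.map (MulAut.conj g).toMonoidHom = ⊥
  nontriv : E ≠ ⊥

variable {P : Sylow p G} {E : Subgroup G} (h : Hyp P E)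
include h

local notation "NP" => Subgroup.normalizer (SetLike.coe (P : Subgroup G))
local notation "NE" => Subgroup.normalizer (SetLike.coe E)

theorem Hyp.dvd_card : p ∣ Nat.card G := by
  have := h.trans
  obtain ⟨a⟩ : Nonempty α := Fintype.card_pos_iff.1 (h.deg ▸ (Fact.out : p.Prime).pos)
  rw [← (stabilizer G a).card_mul_index, index_stabilizer_of_transitive G a,
    Nat.card_eq_fintype_card (α := α), h.deg]
  exact dvd_mul_left p _

theorem Hyp.not_sq_dvd : ¬ p ^ 2 ∣ Nat.card G := fun hd => by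
  have hp : p.Prime := Fact.out
  have h1 : p ^ 2 ∣ p.factorial := by
    refine hd.trans ((Subgroup.card_subgroup_dvd_card G).trans ?_)
    rw [Nat.card_perm, Nat.card_eq_fintype_card, h.deg]
  obtain ⟨k, hk⟩ : ∃ k, p = k + 1 := ⟨p - 1, by have := hp.pos; omega⟩
  rw [hk, Nat.factorial_succ, sq] at h1
  have h2 := Nat.dvd_of_mul_dvd_mul_left (by omega) h1
  rw [← hk] at h2
  exact absurd ((hp.dvd_factorial).1 h2) (by omega)

theorem Hyp.cardP : Nat.card (P : Subgroup G) = p := by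
  obtain ⟨k, hk⟩ := IsPGroup.iff_card.1 P.isPGroup'
  have h1 := P.dvd_card_of_dvd_card h.dvd_card
  have h2 := Subgroup.card_subgroup_dvd_card (P : Subgroup G)
  rw [hk] at h1 h2 ⊢
  have hk1 : k ≤ 1 := by
    by_contra hc
    exact h.not_sq_dvd ((pow_dvd_pow p (by omega)).trans h2)
  have hk0 : k ≠ 0 := fun e => by
    rw [e, pow_zero] at h1
    exact (Fact.out : p.Prime).not_dvd_one h1
  rw [show k = 1 by omega, pow_one]

theorem Hyp.orderP {u : G} (hu : u ∈ (P : Subgroup G)) (hu1 : u ≠ 1) : orderOf u = p := by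
  have h1 : orderOf (⟨u, hu⟩ : (P : Subgroup G)) ∣ p :=
    (orderOf_dvd_natCard _).trans h.cardP.dvd
  rw [Subgroup.orderOf_mk] at h1
  exact ((Nat.dvd_prime (Fact.out : p.Prime)).1 h1).resolve_left fun e =>
    hu1 (orderOf_eq_one_iff.1 e)

/-- The Sylow subgroup is regular. -/
theorem Hyp.exists_translate (a b : α) : ∃ u ∈ (P : Subgroup G), u • a = b := by
  have hbij : Function.Bijective fun u : (P : Subgroup G) => (u : G) • a := by
    refine (Fintype.bijective_iff_injective_and_card _).2 ⟨fun u v huv => ?_, ?_⟩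
    · by_contra hne
      have hne' : (v : G)⁻¹ * u ≠ 1 := fun e => hne (Subtype.ext (inv_mul_eq_one.1 e).symm)
      refine Fg24.PrimeTwoP.not_fix_of_orderOf h.deg
        (h.orderP (mul_mem (inv_mem v.2) u.2) hne') a ?_
      rw [mul_smul, show (u : G) • a = (v : G) • a from huv, inv_smul_smul]
    · rw [← Nat.card_eq_fintype_card, h.cardP, h.deg]
  obtain ⟨u, hu⟩ := hbij.2 b
  exact ⟨u, u.2, hu⟩

theorem Hyp.eq_one_of_fix {c : G} {a : α} (ha : c • a = a)
    (hc : ∀ u ∈ (P : Subgroup G), u * c = c * u) : c = 1 := by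
  refine Subtype.ext (Equiv.ext fun b => ?_)
  obtain ⟨u, hu, rfl⟩ := h.exists_translate a b
  show c • u • a = u • a
  rw [smul_smul, ← hc u hu, mul_smul, ha]

theorem Hyp.centralizerP :
    Subgroup.centralizer ((P : Subgroup G) : Set G) = (P : Subgroup G) := by
  have hcyc := isCyclic_of_prime_card (α := (P : Subgroup G)) h.cardP
  have hcomm : ∀ u ∈ (P : Subgroup G), ∀ v ∈ (P : Subgroup G), u * v = v * u := fun u hu v hv =>
    congrArg Subtype.val (IsMulCommutative.is_comm.comm (⟨u, hu⟩ : (P : Subgroup G)) ⟨v, hv⟩)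
  refine le_antisymm (fun c hc => ?_) fun u hu =>
    Subgroup.mem_centralizer_iff.2 fun v hv => hcomm v hv u hu
  obtain ⟨a⟩ : Nonempty α := Fintype.card_pos_iff.1 (h.deg ▸ (Fact.out : p.Prime).pos)
  obtain ⟨u, hu, hua⟩ := h.exists_translate a (c • a)
  have h1 : u⁻¹ * c = 1 := by
    refine h.eq_one_of_fix (a := a) ?_ fun v hv => ?_
    · rw [mul_smul, ← hua, inv_smul_smul]
    · rw [← mul_assoc, hcomm v hv u⁻¹ (inv_mem hu), mul_assoc,
        Subgroup.mem_centralizer_iff.1 hc v hv, ← mul_assoc]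
  rw [← inv_mul_eq_one.1 h1]
  exact hu

theorem Hyp.E_le : E ≤ NP := h.sup ▸ le_sup_right

theorem Hyp.eq_one_of_mem {x : G} (hxP : x ∈ (P : Subgroup G)) (hxE : x ∈ E) : x = 1 := by
  have : x ∈ (P : Subgroup G) ⊓ E := ⟨hxP, hxE⟩
  rwa [h.inf, Subgroup.mem_bot] at this

theorem Hyp.exists_decomp {n : G} (hn : n ∈ NP) :
    ∃ x ∈ E, ∃ u ∈ (P : Subgroup G), n = x * u := by
  rw [← h.sup, sup_comm] at hn
  rw [← SetLike.mem_coe, Subgroup.coe_mul_of_left_le_normalizer_right _ _ h.E_le] at hn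
  obtain ⟨x, hx, u, hu, rfl⟩ := Set.mem_mul.1 hn
  exact ⟨x, hx, u, hu, rfl⟩

theorem Hyp.decomp_unique {x y u v : G} (hx : x ∈ E) (hy : y ∈ E) (hu : u ∈ (P : Subgroup G))
    (hv : v ∈ (P : Subgroup G)) (he : x * u = y * v) : x = y ∧ u = v := by
  have h1 : y⁻¹ * x = v * u⁻¹ := by
    rw [eq_mul_inv_iff_mul_eq, mul_assoc, he, inv_mul_cancel_left]
  have h2 := h.eq_one_of_mem (h1 ▸ mul_mem hv (inv_mem hu)) (mul_mem (inv_mem hy) hx)
  have h3 := inv_mul_eq_one.1 h2
  subst h3
  exact ⟨rfl, mul_left_cancel he⟩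

theorem Hyp.cardN : Nat.card NP = p * Nat.card E := by
  have hbij : Function.Bijective fun a : E × (P : Subgroup G) =>
      (⟨(a.1 : G) * a.2, mul_mem (h.E_le a.1.2) (Subgroup.le_normalizer a.2.2)⟩ : NP) := by
    refine ⟨fun a b hab => ?_, fun n => ?_⟩
    · obtain ⟨h1, h2⟩ := h.decomp_unique a.1.2 b.1.2 a.2.2 b.2.2 (congrArg Subtype.val hab)
      exact Prod.ext (Subtype.ext h1) (Subtype.ext h2)
    · obtain ⟨x, hx, u, hu, he⟩ := h.exists_decomp n.2
      exact ⟨(⟨x, hx⟩, ⟨u, hu⟩), Subtype.ext he.symm⟩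
  rw [← Nat.card_eq_of_bijective _ hbij, Nat.card_prod, h.cardP, mul_comm]

/-- `E` acts faithfully on `P`, so it is cyclic of order dividing `p - 1`. -/
theorem Hyp.cyclic : IsCyclic E ∧ Nat.card E ∣ p - 1 := by
  have hcyc := isCyclic_of_prime_card (α := (P : Subgroup G)) h.cardP
  let f : E →* MulAut (P : Subgroup G) :=
    (Subgroup.normalizerMonoidHom (P : Subgroup G)).comp (Subgroup.inclusion h.E_le)
  have hinj : Function.Injective f := by
    refine (injective_iff_map_eq_one f).2 fun x hx => Subtype.ext ?_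
    have h1 : Subgroup.inclusion h.E_le x ∈
        (Subgroup.normalizerMonoidHom (P : Subgroup G)).ker := hx
    rw [Subgroup.normalizerMonoidHom_ker, Subgroup.mem_subgroupOf, h.centralizerP] at h1
    exact h.eq_one_of_mem h1 x.2
  let φ : E →* (ZMod (Nat.card (P : Subgroup G)))ˣ :=
    (IsCyclic.mulAutMulEquiv (P : Subgroup G)).toMonoidHom.comp f
  have hφ : Function.Injective φ := (IsCyclic.mulAutMulEquiv (P : Subgroup G)).injective.comp hinj
  have : Fact (Nat.card (P : Subgroup G)).Prime := ⟨h.cardP.symm ▸ Fact.out⟩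
  refine ⟨isCyclic_of_injective φ hφ, ?_⟩
  have := Subgroup.card_dvd_of_injective φ hφ
  rwa [Nat.card_eq_fintype_card (α := (ZMod (Nat.card (P : Subgroup G)))ˣ),
    ZMod.card_units, h.cardP] at this

theorem Hyp.one_lt_card : 1 < Nat.card E := E.one_lt_card_iff_ne_bot.2 h.nontriv

theorem Hyp.coprime : ¬ p ∣ Nat.card E := fun hd => by
  have h1 := Nat.le_of_dvd (Nat.sub_pos_of_lt (Fact.out : p.Prime).one_lt)
    (hd.trans h.cyclic.2)
  have := (Fact.out : p.Prime).pos
  omega

theorem Hyp.comm {x y : G} (hx : x ∈ E) (hy : y ∈ E) : x * y = y * x := by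
  have := h.cyclic.1
  exact congrArg Subtype.val (IsMulCommutative.is_comm.comm (⟨x, hx⟩ : E) ⟨y, hy⟩)

theorem Hyp.fix_unique {x : G} (hx : x ∈ E) (hx1 : x ≠ 1) {a b : α} (ha : x • a = a)
    (hb : x • b = b) : a = b := by
  by_contra hne
  obtain ⟨u, hu, hub⟩ := h.exists_translate a b
  have hu1 : u ≠ 1 := fun e => hne (by rw [← hub, e, one_smul])
  have hv : x * u * x⁻¹ ∈ (P : Subgroup G) := (Subgroup.mem_normalizer_iff.1 (h.E_le hx) u).1 hu
  have he : x * u * x⁻¹ = u := by
    by_contra hne'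
    have h1 : u⁻¹ * (x * u * x⁻¹) ≠ 1 := fun e => hne' (inv_mul_eq_one.1 e).symm
    refine Fg24.PrimeTwoP.not_fix_of_orderOf h.deg (h.orderP (mul_mem (inv_mem hu) hv) h1) a ?_
    rw [mul_smul, mul_smul, mul_smul, (inv_smul_eq_iff.2 ha.symm), hub, hb, ← hub, inv_smul_smul]
  have hxu : x * u = u * x := by
    conv_rhs => rw [← he]
    rw [inv_mul_cancel_right]
  refine hx1 (h.eq_one_of_fix ha fun v hv' => ?_)
  obtain ⟨i, hi⟩ := Subgroup.mem_zpowers_iff.1 (mem_zpowers_of_prime_card h.cardP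
    (g := (⟨u, hu⟩ : (P : Subgroup G))) (g' := ⟨v, hv'⟩) fun e => hu1 (congrArg Subtype.val e))
  have hi' : u ^ i = v := by simpa using congrArg Subtype.val hi
  rw [← hi']
  exact ((show Commute u x from hxu.symm).zpow_left i).eq

/-- `E` fixes a point. -/
theorem Hyp.exists_point : ∃ a : α, ∀ x ∈ E, x • a = a := by
  by_contra hno
  push Not at hno
  have hfree : ∀ a : α, ∀ x : E, x • a = a → x = 1 := by
    intro a x hx
    by_contra hx1
    obtain ⟨y, hy, hya⟩ := hno a
    refine hya (h.fix_unique x.2 (fun e => hx1 (Subtype.ext e)) ?_ hx)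
    show (x : G) • y • a = y • a
    rw [smul_smul, h.comm x.2 hy, mul_smul, show (x : G) • a = a from hx]
  obtain ⟨R, -, hR⟩ := PrimeSpherical.sum_free_orbits (K := E) (fun _ : α => 1) Finset.univ
    (fun _ _ _ => Finset.mem_univ _) fun a _ x hx => hfree a x hx
  simp only [Finset.sum_const, Finset.card_univ, smul_eq_mul, mul_one, h.deg] at hR
  have h1 : Nat.card E ∣ p := ⟨R.card, by rw [Nat.card_eq_fintype_card, mul_comm]; exact hR⟩
  rcases (Nat.dvd_prime (Fact.out : p.Prime)).1 h1 with h2 | h2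
  · exact absurd h2 (ne_of_gt h.one_lt_card)
  · exact h.coprime h2.symm.dvd

/-- The normalizer of `E` fixes the fixed point of `E`. -/
theorem Hyp.NE_le {a : α} (ha : ∀ x ∈ E, x • a = a) : NE ≤ stabilizer G a := by
  intro g hg
  obtain ⟨⟨x, hx⟩, hx1⟩ := E.ne_bot_iff_exists_ne_one.1 h.nontriv
  have hx1' : x ≠ 1 := fun e => hx1 (Subtype.ext e)
  have hy : g⁻¹ * x * g ∈ E := by
    have := (Subgroup.mem_normalizer_iff.1 (inv_mem hg) x).1 hx
    rwa [inv_inv] at this
  refine mem_stabilizer_iff.2 (h.fix_unique hx hx1' ?_ (ha x hx))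
  rw [smul_smul, show x * g = g * (g⁻¹ * x * g) by group, mul_smul, ha _ hy]

theorem Hyp.centralizer_le {x : G} (hx : x ∈ E) (hx1 : x ≠ 1) :
    Subgroup.centralizer ({x} : Set G) ≤ NE := by
  intro g hg
  by_contra hn
  have h1 : x ∈ E ⊓ E.map (MulAut.conj g).toMonoidHom := ⟨hx, x, hx, by
    show g * x * g⁻¹ = x
    rw [Subgroup.mem_centralizer_singleton_iff.1 hg, mul_inv_cancel_right]⟩
  rw [h.ti g hn, Subgroup.mem_bot] at h1
  exact hx1 h1

theorem Hyp.card_eq (a : α) : Nat.card G = p * Nat.card (stabilizer G a) := by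
  have := h.trans
  rw [← (stabilizer G a).card_mul_index, index_stabilizer_of_transitive G a,
    Nat.card_eq_fintype_card (α := α), h.deg, mul_comm]

theorem Hyp.not_normal : ¬ (P : Subgroup G).Normal := fun hn => by
  obtain ⟨a, ha⟩ := h.exists_point
  have h1 : NP = ⊤ := Subgroup.normalizer_eq_top_iff.2 hn
  have h2 := h.cardN
  rw [h1, Subgroup.card_top, h.card_eq a] at h2
  have h3 := Subgroup.card_dvd_of_le (h.NE_le ha)
  rw [Nat.eq_of_mul_eq_mul_left (Fact.out : p.Prime).pos h2, h.normCard] at h3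
  have := Nat.le_of_dvd (lt_trans zero_lt_one h.one_lt_card) h3
  have := h.one_lt_card
  omega

theorem Hyp.not_solvable : ¬ Group.IsSolvable G := fun hs => by
  have := h.trans
  exact h.not_normal (Fg24.PrimeTwoP.normal_of_solvable h.deg hs P h.cardP)

end Cfsg.Agent.UniqueP
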