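import Mathlib
import Cfsg.Agent.Char.Artin
import Cfsg.Agent.Char.PrimeDegreeCount
import Cfsg.Agent.Coherence.Basic
import Cfsg.Agent.Blocks.Congr
import Cfsg.Agent.UniqueP.Frame

/-!
# The unique character of degree `p`, and simplicity
-/

set_option autoImplicit false

namespace Cfsg.Agent.UniqueP

open Cfsg.Agent MulAction
open scoped ComplexConjugate
open scoped _root_.Classical

universe u

variable {α : Type u} [Fintype α] [DecidableEq α] {p : ℕ} [Fact p.Prime]
  {G : Subgroup (Equiv.Perm α)} {P : Sylow p G} {E : Subgroup G} (h : Hyp P E)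
include h

local notation "NP" => Subgroup.normalizer (SetLike.coe (P : Subgroup G))

/-- The `E`-part of an element of the normalizer. -/
noncomputable def Hyp.projHom : NP →* E where
  toFun n := ⟨(h.exists_decomp n.2).choose, (h.exists_decomp n.2).choose_spec.1⟩
  map_one' := by
    obtain ⟨hx, u, hu, he⟩ := (h.exists_decomp (1 : NP).2).choose_spec
    exact Subtype.ext (h.decomp_unique hx (one_mem E) hu (one_mem _) (by
      rw [← he]
      simp)).1
  map_mul' := fun a b => by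
    obtain ⟨hx, u, hu, he⟩ := (h.exists_decomp a.2).choose_spec
    obtain ⟨hy, v, hv, hf⟩ := (h.exists_decomp b.2).choose_spec
    obtain ⟨hz, w, hw, hg⟩ := (h.exists_decomp (a * b).2).choose_spec
    refine Subtype.ext (h.decomp_unique hz (mul_mem hx hy) hw
      (?_ : (h.exists_decomp b.2).choose⁻¹ * u * (h.exists_decomp b.2).choose * v ∈
        (P : Subgroup G)) ?_).1
    · refine mul_mem ?_ hv
      have h1 := (Subgroup.mem_normalizer_iff.1 (inv_mem (h.E_le hy)) u).1 hu
      rwa [inv_inv] at h1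
    · rw [← hg, Subgroup.coe_mul]
      conv_lhs => rw [he, hf]
      group

theorem Hyp.projHom_of_mem (x : E) : h.projHom ⟨x, h.E_le x.2⟩ = x := by
  obtain ⟨hx, u, hu, he⟩ := (h.exists_decomp (h.E_le x.2)).choose_spec
  exact Subtype.ext (h.decomp_unique hx x.2 hu (one_mem _) (by rw [← he, mul_one])).1

theorem Hyp.projHom_eq_one (n : NP) : h.projHom n = 1 ↔ (n : G) ∈ (P : Subgroup G) := by
  obtain ⟨hx, u, hu, he⟩ := (h.exists_decomp n.2).choose_spec
  constructor
  · intro h1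
    have h2 : (h.exists_decomp n.2).choose = 1 := congrArg Subtype.val h1
    rw [he, h2, one_mul]
    exact hu
  · intro hn
    exact Subtype.ext (h.decomp_unique hx (one_mem E) hu hn (by rw [← he, one_mul])).1

/-- The setting of the eigenfunctions. -/
theorem Hyp.exists_ctx : ∃ C : PrimeSpherical.Ctx (P : Subgroup G) p (Nat.card E),
    ∀ x ∈ E, ∀ hx : x ∈ NP, C.lam ⟨x, hx⟩ = 1 → x = 1 := by
  have : IsCyclic E := h.cyclic.1
  have : NeZero (Nat.card E) := ⟨Nat.card_pos.ne'⟩
  let ι : E ≃* rootsOfUnity (Nat.card E) ℂ := mulEquivOfCyclicCardEq (by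
    rw [HasEnoughRootsOfUnity.natCard_rootsOfUnity])
  let f : E →* ℂˣ := (rootsOfUnity (Nat.card E) ℂ).subtype.comp ι.toMonoidHom
  have hf : Function.Injective f := Subtype.val_injective.comp ι.injective
  refine ⟨⟨f.comp h.projHom, h.cardP, h.cardN, fun n => ?_, fun n => ?_, h.coprime⟩,
    fun x hx hxN hl => ?_⟩
  · rw [MonoidHom.comp_apply, map_eq_one_iff f hf]
    exact h.projHom_eq_one n
  · rw [MonoidHom.comp_apply, ← map_pow, pow_card_eq_one', map_one]
  · have h1 : h.projHom ⟨x, hxN⟩ = 1 := (map_eq_one_iff f hf).1 hl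
    exact h.eq_one_of_mem ((h.projHom_eq_one _).1 h1) hx

theorem Hyp.conj_translate {x u : G} (hx : x ∈ E) (hx1 : x ≠ 1) (hu : u ∈ (P : Subgroup G)) :
    IsConj x (x * u) := by
  have hxP : ∀ v ∈ (P : Subgroup G), x * v * x⁻¹ ∈ (P : Subgroup G) := fun v hv =>
    (Subgroup.mem_normalizer_iff.1 (h.E_le hx) v).1 hv
  have hxP' : ∀ v ∈ (P : Subgroup G), x⁻¹ * v * x ∈ (P : Subgroup G) := fun v hv => by
    have := (Subgroup.mem_normalizer_iff.1 (inv_mem (h.E_le hx)) v).1 hv
    rwa [inv_inv] at this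
  let f : ↥(P : Subgroup G) → ↥(P : Subgroup G) := fun (v : (P : Subgroup G)) =>
    ⟨x⁻¹ * (v : G) * x * (v : G)⁻¹, mul_mem (hxP' v v.2) (inv_mem v.2)⟩
  have hcomm : ∀ a ∈ (P : Subgroup G), ∀ b ∈ (P : Subgroup G), a * b = b * a := fun a ha b hb => by
    have hb' : b ∈ Subgroup.centralizer ((P : Subgroup G) : Set G) := by rwa [h.centralizerP]
    exact Subgroup.mem_centralizer_iff.1 hb' a ha
  have hinj : Function.Injective f := by
    intro v w hvw
    have he : x⁻¹ * (v : G) * x * (v : G)⁻¹ = x⁻¹ * w * x * (w : G)⁻¹ := congrArg Subtype.val hvw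
    set z := (w : G)⁻¹ * v with hz
    have hzP : z ∈ (P : Subgroup G) := mul_mem (inv_mem w.2) v.2
    have h2 : x⁻¹ * (w : G) * x * ((x⁻¹ * z * x) * z⁻¹) * (w : G)⁻¹ =
        x⁻¹ * w * x * (w : G)⁻¹ := by
      rw [← he, hz]
      group
    have h3 : x⁻¹ * z * x * z⁻¹ = 1 := mul_left_cancel
      (mul_right_cancel (h2.trans (by rw [mul_one])))
    have hzx : z * x = x * z := by
      have := mul_inv_eq_one.1 h3
      rw [mul_assoc, inv_mul_eq_iff_eq_mul] at this
      exact this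
    by_contra hne
    have hz1 : z ≠ 1 := fun e => hne (Subtype.ext (inv_mul_eq_one.1 e).symm)
    refine hx1 (h.eq_one_of_mem ?_ hx)
    rw [← h.centralizerP, Subgroup.mem_centralizer_iff]
    intro a ha
    obtain ⟨i, hi⟩ := Subgroup.mem_zpowers_iff.1 (mem_zpowers_of_prime_card h.cardP
      (g := (⟨z, hzP⟩ : (P : Subgroup G))) (g' := ⟨a, ha⟩) fun e => hz1 (congrArg Subtype.val e))
    have hi' : z ^ i = a := by simpa using congrArg Subtype.val hi
    rw [← hi']
    exact ((show Commute z x from hzx).zpow_left i).eq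
  obtain ⟨v, hv⟩ := (Finite.injective_iff_surjective.1 hinj) ⟨u, hu⟩
  have hv' : x⁻¹ * (v : G) * x * (v : G)⁻¹ = u := congrArg Subtype.val hv
  exact isConj_iff.2 ⟨v, by rw [← hv']; group⟩

variable {W : Cfsg.IrrCharacter G}

theorem Hyp.vanish (hW : Cfsg.charDegree (W : G → ℂ) = p) {g : G} (hg : p ∣ orderOf g) :
    (W : G → ℂ) g = 0 := by
  have := Fintype.ofFinite G
  obtain ⟨n, -, hn⟩ := Char.IsIrr.degree W.2
  obtain rfl : n = p := by
    rw [← hW]
    have := Blocks.charDegree_eq (χ := (W : G → ℂ)) hn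
    exact this.symm
  exact Char.defect_zero W.2 (Fact.out : n.Prime) (n := 1) (by rw [pow_one]; exact h.dvd_card)
    h.not_sq_dvd hn (by rw [pow_one]) g hg

theorem Hyp.W_one (hW : Cfsg.charDegree (W : G → ℂ) = p) : (W : G → ℂ) 1 = p := by
  obtain ⟨n, -, hn⟩ := Char.IsIrr.degree W.2
  rw [hn, ← hW, Blocks.charDegree_eq (χ := (W : G → ℂ)) hn]

open PrimeSpherical in
/-- On `E` the character of degree `p` is linear. -/
theorem Hyp.W_linear (hW : Cfsg.charDegree (W : G → ℂ) = p)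
    (C : Ctx (P : Subgroup G) p (Nat.card E)) :
    ∃ j < Nat.card E, ∀ (x : G) (hx : x ∈ E), x ≠ 1 →
      (W : G → ℂ) x = C.mu j ⟨x, h.E_le hx⟩ := by
  have := Fintype.ofFinite G
  let _ : Fintype NP := Fintype.ofFinite _
  let _ : Fintype (P : Subgroup G) := Fintype.ofFinite _
  let _ : ∀ a : G, Decidable (a ∈ (P : Subgroup G)) := fun _ => Classical.propDecidable _
  have hpc : (p : ℂ) ≠ 0 := Nat.cast_ne_zero.2 (Fact.out : p.Prime).ne_zero
  have hec : (Nat.card E : ℂ) ≠ 0 := Nat.cast_ne_zero.2 Nat.card_pos.ne'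
  have hnat : ∀ j, ∃ k : ℕ, ((p : ℂ) * Nat.card E)⁻¹ *
      ∑ n : NP, C.mu j n⁻¹ * (W : G → ℂ) n = k := by
    intro j
    obtain ⟨k, hk⟩ := Char.classInner_isCharacter_eq_natCast
      (Char.isCharacter_res NP (Char.IsIrr.isCharacter W.2))
      (Char.isCharacter_hom (C.lam ^ j))
    refine ⟨k, hk.symm.trans ?_ |>.symm⟩
    rw [Cfsg.classInner, h.cardN, Nat.cast_mul]
    congr 1
    refine Finset.sum_congr rfl fun n _ => ?_
    rw [mul_comm]
    congr 1
    rw [← Char.IsChar.inv_eq_conj (Char.isCharacter_hom (C.lam ^ j))]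
    show ((C.lam ^ j) n⁻¹ : ℂ) = C.mu j n⁻¹
    rfl
  choose m hm using hnat
  have hsum : ∀ (f : G → ℂ) (y : NP), ∑ j ∈ Finset.range (Nat.card E),
      C.mu j y * (((p : ℂ) * Nat.card E)⁻¹ * ∑ n : NP, C.mu j n⁻¹ * f n) =
      (p : ℂ)⁻¹ * ∑ u : (P : Subgroup G), f (y * u) := by
    intro f y
    simp only [Finset.mul_sum]
    rw [Finset.sum_comm]
    have e1 : ∀ n : NP, ∑ j ∈ Finset.range (Nat.card E),
        C.mu j y * (((p : ℂ) * Nat.card E)⁻¹ * (C.mu j n⁻¹ * f n)) =
        if ((y⁻¹ * n : NP) : G) ∈ (P : Subgroup G) then (p : ℂ)⁻¹ * f n else 0 := by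
      intro n
      have e2 : ∀ j, C.mu j y * (((p : ℂ) * Nat.card E)⁻¹ * (C.mu j n⁻¹ * f n)) =
          (((p : ℂ) * Nat.card E)⁻¹ * f n) * C.mu j (y * n⁻¹) := fun j => by
        rw [map_mul]; ring
      rw [Finset.sum_congr rfl fun j _ => e2 j, ← Finset.mul_sum, C.sum_mu]
      have hiff : ((y * n⁻¹ : NP) : G) ∈ (P : Subgroup G) ↔
          ((y⁻¹ * n : NP) : G) ∈ (P : Subgroup G) := by
        rw [← C.ker, ← C.ker, map_mul, map_mul, map_inv, map_inv, mul_inv_eq_one, inv_mul_eq_one]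
      by_cases hn : ((y⁻¹ * n : NP) : G) ∈ (P : Subgroup G)
      · rw [if_pos (hiff.2 hn), if_pos hn]
        field_simp
      · rw [if_neg (mt hiff.1 hn), if_neg hn, mul_zero]
    rw [Finset.sum_congr rfl fun n _ => e1 n, ← Finset.sum_filter]
    refine Finset.sum_bij'
      (fun n hn => (⟨(y⁻¹ * n : NP), (Finset.mem_filter.1 hn).2⟩ : (P : Subgroup G)))
      (fun u _ => y * ⟨u, Subgroup.le_normalizer u.2⟩) ?_ ?_ ?_ ?_ ?_
    · intros; exact Finset.mem_univ _
    · intro u _
      refine Finset.mem_filter.2 ⟨Finset.mem_univ _, ?_⟩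
      rw [inv_mul_cancel_left]
      exact u.2
    · intro n _
      refine Subtype.ext ?_
      show (y : G) * ((y⁻¹ * n : NP) : G) = n
      simp
    · intro u _
      refine Subtype.ext ?_
      show ((y⁻¹ * (y * ⟨u, Subgroup.le_normalizer u.2⟩) : NP) : G) = u
      simp
    · intro n _
      congr 2
      show (n : G) = (y : G) * ((y⁻¹ * n : NP) : G)
      simp
  have hWu : ∀ u : (P : Subgroup G), u ≠ 1 → (W : G → ℂ) u = 0 := fun u hu => h.vanish hW (by
    rw [h.orderP u.2 fun e => hu (Subtype.ext e)])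
  have h0 : ∑ j ∈ Finset.range (Nat.card E), (m j : ℂ) = 1 := by
    have := hsum (W : G → ℂ) 1
    simp only [map_one, one_mul, OneMemClass.coe_one, hm] at this
    rw [this, Finset.sum_eq_single (1 : (P : Subgroup G)) (fun u _ hu => hWu u hu)
      (fun hh => absurd (Finset.mem_univ _) hh), OneMemClass.coe_one, h.W_one hW,
      inv_mul_cancel₀ hpc]
  have h0' : ∑ j ∈ Finset.range (Nat.card E), m j = 1 := by exact_mod_cast h0
  obtain ⟨j, hj, hj0⟩ := Finset.exists_ne_zero_of_sum_ne_zero (h0'.trans_ne one_ne_zero)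
  have hj1 : m j = 1 := by
    have := Finset.single_le_sum (f := m) (fun i _ => Nat.zero_le _) hj
    omega
  refine ⟨j, Finset.mem_range.1 hj, fun x hx hx1 => ?_⟩
  have h1 := hsum (W : G → ℂ) ⟨x, h.E_le hx⟩
  simp only [hm] at h1
  rw [Finset.sum_eq_single j (fun i hi hij => by
      have h2 := Finset.add_sum_erase _ m hj
      have h3 := Finset.single_le_sum (f := m) (fun k _ => Nat.zero_le _)
        (Finset.mem_erase.2 ⟨hij, hi⟩)
      rw [show m i = 0 by omega, Nat.cast_zero, mul_zero])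
    (fun hh => absurd hj hh), hj1, Nat.cast_one, mul_one] at h1
  rw [h1, Finset.sum_congr rfl (g := fun _ => (W : G → ℂ) x) fun u _ =>
    (Char.classFun_isConj (Char.isClassFunction_of_isIrr W.2)
      (h.conj_translate hx hx1 u.2)).symm,
    Finset.sum_const, Finset.card_univ, ← Nat.card_eq_fintype_card, h.cardP, nsmul_eq_mul,
    inv_mul_cancel_left₀ hpc]

theorem Hyp.W_ne_zero (hW : Cfsg.charDegree (W : G → ℂ) = p) {x : G} (hx : x ∈ E) (hx1 : x ≠ 1) :
    (W : G → ℂ) x ≠ 0 := by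
  obtain ⟨C, -⟩ := h.exists_ctx
  obtain ⟨j, -, hj⟩ := h.W_linear hW C
  rw [hj x hx hx1]
  exact left_ne_zero_of_mul_eq_one (C.mu_mul_inv j _)

/-- The group is simple. -/
theorem Hyp.isSimple (hW : Cfsg.charDegree (W : G → ℂ) = p)
    (huniq : ∀ χ : Cfsg.IrrCharacter G, Cfsg.charDegree (χ : G → ℂ) = p → χ = W) :
    IsSimpleGroup G := by
  have := Fintype.ofFinite G
  have := h.trans
  have hp : p.Prime := Fact.out
  have : Nontrivial G := by
    refine Finite.one_lt_card_iff_nontrivial.1 ?_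
    exact lt_of_lt_of_le hp.one_lt (Nat.le_of_dvd Nat.card_pos h.dvd_card)
  refine ⟨fun K hK => or_iff_not_imp_left.2 fun hne => ?_⟩
  by_contra htop
  have : IsPreprimitive G α := IsPreprimitive.of_prime_card (by
    rw [Nat.card_eq_fintype_card, h.deg]; exact hp)
  have hKt : IsPretransitive K α := by
    refine IsQuasiPreprimitive.isPretransitive_of_normal fun hfix => hne ?_
    rw [Subgroup.eq_bot_iff_forall]
    intro k hk
    exact Subtype.ext (Equiv.ext fun b => (Set.eq_univ_iff_forall.mp hfix b) ⟨k, hk⟩)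
  have hpK : p ∣ Nat.card K := by
    obtain ⟨a⟩ : Nonempty α := Fintype.card_pos_iff.1 (h.deg ▸ hp.pos)
    rw [← (stabilizer K a).card_mul_index, index_stabilizer_of_transitive K a,
      Nat.card_eq_fintype_card (α := α), h.deg]
    exact dvd_mul_left p _
  obtain ⟨Q⟩ := (inferInstance : Nonempty (Sylow p K))
  have hQ : Nat.card (Q : Subgroup K) = p := by
    obtain ⟨k, hk⟩ := IsPGroup.iff_card.1 Q.isPGroup'
    have h1 := Q.dvd_card_of_dvd_card hpK
    have h2 := (Subgroup.card_subgroup_dvd_card (Q : Subgroup K)).trans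
      (Subgroup.card_subgroup_dvd_card K)
    rw [hk] at h1 h2 ⊢
    have hk1 : k ≤ 1 := by
      by_contra hc
      exact h.not_sq_dvd ((pow_dvd_pow p (by omega)).trans h2)
    have hk0 : k ≠ 0 := fun e => by
      rw [e, pow_zero] at h1
      exact hp.not_dvd_one h1
    rw [show k = 1 by omega, pow_one]
  have hPK : (P : Subgroup G) ≤ K := by
    let Q' : Sylow p G := Sylow.ofCard ((Q : Subgroup K).map K.subtype) (by
      rw [Subgroup.card_map_of_injective K.subtype_injective, hQ]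
      have := P.card_eq_multiplicity
      rw [h.cardP] at this
      exact this)
    obtain ⟨g, hg⟩ := MulAction.exists_smul_eq G Q' P
    intro u hu
    rw [← hg] at hu
    obtain ⟨v, hv, rfl⟩ := hu
    exact hK.conj_mem _ (Subgroup.map_subtype_le _ hv) g
  have hsup : NP ⊔ K = ⊤ := Sylow.normalizer_sup_eq_top' P hPK
  obtain ⟨x, hx, hxK⟩ : ∃ x ∈ E, x ∉ K := by
    by_contra hall
    push Not at hall
    refine htop ?_
    rw [eq_top_iff, ← hsup, ← h.sup]
    exact sup_le (sup_le hPK hall) le_rfl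
  -- the quotient is commutative
  have hgen : ∀ q : G ⧸ K, ∃ y ∈ E, (y : G ⧸ K) = q := by
    intro q
    induction q using QuotientGroup.induction_on with
    | H g =>
      have hg : g ∈ NP ⊔ K := by rw [hsup]; trivial
      rw [← SetLike.mem_coe, Subgroup.mul_normal] at hg
      obtain ⟨n, hn, k, hk, rfl⟩ := Set.mem_mul.1 hg
      obtain ⟨y, hy, u, hu, rfl⟩ := h.exists_decomp hn
      refine ⟨y, hy, QuotientGroup.eq.2 ?_⟩
      rw [show y⁻¹ * (y * u * k) = u * k by group]
      exact mul_mem (hPK hu) hk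
  let _ : CommGroup (G ⧸ K) :=
    { (inferInstance : Group (G ⧸ K)) with
      mul_comm := fun a b => by
        obtain ⟨y, hy, rfl⟩ := hgen a
        obtain ⟨z, hz, rfl⟩ := hgen b
        rw [← QuotientGroup.mk_mul, ← QuotientGroup.mk_mul, h.comm hy hz] }
  obtain ⟨φ, hφ⟩ := CommGroup.exists_apply_ne_one_of_hasEnoughRootsOfUnity (G ⧸ K) ℂ
    (a := (x : G ⧸ K)) (fun e => hxK ((QuotientGroup.eq_one_iff x).1 e))
  let lam : G →* ℂˣ := φ.comp (QuotientGroup.mk' K)
  have hirr := Char.isIrr_twist W.2 lam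
  have he := congrArg (fun χ : Cfsg.IrrCharacter G => (χ : G → ℂ) x) (huniq ⟨_, hirr⟩ (by
    refine Blocks.charDegree_eq ?_
    show (lam 1 : ℂ) * (W : G → ℂ) 1 = p
    rw [map_one, Units.val_one, one_mul, h.W_one hW]))
  have hx1 : x ≠ 1 := fun e => hxK (e ▸ one_mem K)
  have h1 : (lam x : ℂ) = 1 := mul_right_cancel₀ (h.W_ne_zero hW hx hx1) (by rw [one_mul]; exact he)
  exact hφ (Units.ext h1)

/-- The character of degree `p` is real. -/
theorem Hyp.W_real (hW : Cfsg.charDegree (W : G → ℂ) = p)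
    (huniq : ∀ χ : Cfsg.IrrCharacter G, Cfsg.charDegree (χ : G → ℂ) = p → χ = W) (g : G) :
    conj ((W : G → ℂ) g) = (W : G → ℂ) g := by
  have he := huniq ⟨_, Coherence.isIrr_conjFun W.2⟩ (by
    refine Blocks.charDegree_eq ?_
    show conj ((W : G → ℂ) 1) = p
    rw [h.W_one hW, Complex.conj_natCast])
  exact congrArg (fun χ : Cfsg.IrrCharacter G => (χ : G → ℂ) g) he

/-- For `E` of odd order the character of degree `p` is one on `E`. -/
theorem Hyp.W_eq_one (hW : Cfsg.charDegree (W : G → ℂ) = p)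
    (huniq : ∀ χ : Cfsg.IrrCharacter G, Cfsg.charDegree (χ : G → ℂ) = p → χ = W)
    (hodd : Odd (Nat.card E)) {x : G} (hx : x ∈ E) (hx1 : x ≠ 1) : (W : G → ℂ) x = 1 := by
  obtain ⟨C, -⟩ := h.exists_ctx
  obtain ⟨j, -, hj⟩ := h.W_linear hW C
  have hz := hj x hx hx1
  set z := (W : G → ℂ) x
  have hpow : z ^ Nat.card E = 1 := by
    rw [hz, C.mu_apply, ← pow_mul, mul_comm, pow_mul, ← Units.val_pow_eq_pow_val, C.pow,
      Units.val_one, one_pow]
  have hn := Complex.norm_eq_one_of_pow_eq_one hpow Nat.card_pos.ne'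
  have hc : conj z = z := h.W_real hW huniq x
  have h2 : z ^ 2 = 1 := by
    rw [sq]
    nth_rewrite 1 [← hc]
    rw [Complex.conj_mul', hn]
    simp
  obtain ⟨k, hk⟩ := hodd
  rw [hk, pow_succ, pow_mul, h2, one_pow, one_mul] at hpow
  exact hpow

end Cfsg.Agent.UniqueP
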