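import Mathlib
import Cfsg.Agent.Fusion.Transfer
import Cfsg.Agent.Invol.SectionInduce
import Cfsg.Agent.UniqueP.Simple

/-!
# The exceptional characters for `E` of odd order

An involution inverts `E`; inducing `1 - μ` gives `1 + W - Y` with `Y` real of degree `p + 1`.
-/

set_option autoImplicit false

namespace Cfsg.Agent.UniqueP

open Cfsg.Agent MulAction
open scoped ComplexConjugate
open scoped _root_.Classical

universe u

variable {α : Type u} [Fintype α] [DecidableEq α] {p : ℕ} [Fact p.Prime]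
  {G : Subgroup (Equiv.Perm α)} {P : Sylow p G} {E : Subgroup G} (h : Hyp P E)
include h

local notation "NP" => Subgroup.normalizer (SetLike.coe (P : Subgroup G))
local notation "NE" => Subgroup.normalizer (SetLike.coe E)

theorem Hyp.mem_NE_of_conj {x g : G} (hx : x ∈ E) (hx1 : x ≠ 1) (hg : g * x * g⁻¹ ∈ E) :
    g ∈ NE := by
  by_contra hn
  have h1 : g * x * g⁻¹ ∈ E ⊓ E.map (MulAut.conj g).toMonoidHom := ⟨hg, x, hx, rfl⟩
  rw [h.ti g hn, Subgroup.mem_bot, conj_eq_one_iff] at h1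
  exact hx1 h1

theorem Hyp.exists_invol (hodd : Odd (Nat.card E)) :
    ∃ s ∈ NE, orderOf s = 2 ∧ s ∉ E ∧ ∀ g ∈ NE, g ∈ E ∨ ∃ y ∈ E, g = s * y := by
  have : Fact (Nat.Prime 2) := ⟨Nat.prime_two⟩
  obtain ⟨s, hs⟩ := exists_prime_orderOf_dvd_card' (G := NE) 2 (h.normCard ▸ dvd_mul_right 2 _)
  have hs2 : orderOf (s : G) = 2 := by rw [Subgroup.orderOf_coe, hs]
  have hsE : (s : G) ∉ E := fun hsE => by
    have h1 := Subgroup.orderOf_dvd_natCard E hsE
    rw [hs2] at h1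
    exact hodd.not_two_dvd_nat h1
  refine ⟨s, s.2, hs2, hsE, fun g hg => or_iff_not_imp_left.2 fun hgE =>
    ⟨(s : G)⁻¹ * g, ?_, by group⟩⟩
  have hidx : (E.subgroupOf NE).index = 2 := by
    have h1 := (E.subgroupOf NE).card_mul_index
    rw [Nat.card_congr (Subgroup.subgroupOfEquivOfLe Subgroup.le_normalizer).toEquiv,
      h.normCard] at h1
    exact Nat.eq_of_mul_eq_mul_left Nat.card_pos (h1.trans (mul_comm 2 _))
  have h2 := (Subgroup.mul_mem_iff_of_index_two hidx (a := s⁻¹) (b := ⟨g, hg⟩)).2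
    (iff_of_false (fun e => hsE (by simpa [Subgroup.mem_subgroupOf] using e))
      (fun e => hgE e))
  simpa [Subgroup.mem_subgroupOf] using h2

/-- An involution of the normalizer outside `E` inverts `E`. -/
theorem Hyp.inverts [IsSimpleGroup G] (hodd : Odd (Nat.card E)) {s : G} (hs : s ∈ NE)
    (hs2 : orderOf s = 2) (hcov : ∀ g ∈ NE, g ∈ E ∨ ∃ y ∈ E, g = s * y) {x : G} (hx : x ∈ E) :
    s * x * s⁻¹ = x⁻¹ := by
  have := h.cyclic.1
  obtain ⟨g₀, hg₀⟩ := IsCyclic.exists_generator (α := E)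
  have hord : orderOf g₀ = Nat.card E := orderOf_eq_card_of_forall_mem_zpowers hg₀
  have hconj : s * (g₀ : G) * s⁻¹ ∈ E := (Subgroup.mem_normalizer_iff.1 hs _).1 g₀.2
  obtain ⟨r, hr⟩ := Subgroup.mem_zpowers_iff.1 (hg₀ ⟨_, hconj⟩)
  have hr' : (g₀ : G) ^ r = s * (g₀ : G) * s⁻¹ := by simpa using congrArg Subtype.val hr
  suffices hh : ((Nat.card E : ℤ)) ∣ r + 1 by
    have h1 : (g₀ : G) ^ (r + 1) = 1 := by
      rw [← orderOf_dvd_iff_zpow_eq_one, Subgroup.orderOf_coe, hord]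
      exact hh
    obtain ⟨i, hi⟩ := Subgroup.mem_zpowers_iff.1 (hg₀ ⟨x, hx⟩)
    have hi' : (g₀ : G) ^ i = x := by simpa using congrArg Subtype.val hi
    rw [zpow_add_one, hr'] at h1
    rw [← hi', ← conj_zpow, eq_inv_of_mul_eq_one_left h1, inv_zpow]
  have hr2 : ((Nat.card E : ℤ)) ∣ (r - 1) * (r + 1) := by
    have hss : s * s = 1 := by rw [← pow_two, ← hs2, pow_orderOf_eq_one]
    have h1 : (g₀ : G) ^ (r * r) = g₀ := by
      rw [zpow_mul, hr', conj_zpow, hr',
        show s * (s * (g₀ : G) * s⁻¹) * s⁻¹ = (s * s) * g₀ * (s * s)⁻¹ by group, hss, one_mul,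
        inv_one, mul_one]
    have h2 : (g₀ : G) ^ (r * r - 1) = 1 := by rw [zpow_sub_one, h1, mul_inv_cancel]
    rw [← orderOf_dvd_iff_zpow_eq_one, Subgroup.orderOf_coe, hord] at h2
    rwa [show (r - 1) * (r + 1) = r * r - 1 by ring]
  -- no Sylow subgroup of `E` is centralised by `s`
  have hnot : ∀ q : ℕ, q.Prime → q ∣ Nat.card E → ¬ (q : ℤ) ∣ r - 1 := by
    intro q hq hqe hqr
    have := Fact.mk hq
    obtain ⟨Q⟩ := (inferInstance : Nonempty (Sylow q E))
    have hQc : ∀ y ∈ (Q : Subgroup E), s * (y : G) * s⁻¹ = y := by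
      intro y hy
      obtain ⟨i, hi⟩ := Subgroup.mem_zpowers_iff.1 (hg₀ y)
      have hi' : (g₀ : G) ^ i = y := by simpa using congrArg Subtype.val hi
      have h1 : s * (y : G) * s⁻¹ = (y : G) ^ r := by
        rw [← hi', ← conj_zpow, ← hr', ← zpow_mul, ← zpow_mul, mul_comm]
      obtain ⟨k, hk⟩ := Q.isPGroup' ⟨y, hy⟩
      have hk' : (y : G) ^ q ^ k = 1 := congrArg (fun z : (Q : Subgroup E) => ((z : E) : G)) hk
      obtain ⟨m, -, hm⟩ := (Nat.dvd_prime_pow hq).1 (orderOf_dvd_of_pow_eq_one hk')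
      -- the order of `y` divides `r - 1`
      have h2 : (orderOf (y : G) : ℤ) ∣ (r - 1) * (r + 1) := by
        refine dvd_trans ?_ hr2
        exact_mod_cast (Subgroup.orderOf_coe y).dvd.trans (orderOf_dvd_natCard y)
      have h3 : IsCoprime (orderOf (y : G) : ℤ) (r + 1) := by
        rw [hm, Nat.cast_pow]
        refine IsCoprime.pow_left ((Int.prime_iff_natAbs_prime.2 (by simpa using hq)).coprime_iff_not_dvd.2
          fun hd => ?_)
        have h4 : (q : ℤ) ∣ 2 := by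
          have := dvd_sub hd hqr
          rwa [show r + 1 - (r - 1) = 2 by ring] at this
        have h5 : q = 2 := (Nat.prime_dvd_prime_iff_eq hq Nat.prime_two).1 (by exact_mod_cast h4)
        exact hodd.not_two_dvd_nat (h5 ▸ hqe)
      have h6 : (orderOf (y : G) : ℤ) ∣ r - 1 := h3.dvd_of_dvd_mul_right h2
      rw [h1, ← sub_add_cancel r 1, zpow_add_one,
        orderOf_dvd_iff_zpow_eq_one.1 h6, one_mul]
    have hQE : (Q : Subgroup E).map E.subtype ≤ E := Subgroup.map_subtype_le _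
    set Q₁ := (Q : Subgroup E).map E.subtype with hQ₁
    have hQ1card : Nat.card Q₁ = Nat.card (Q : Subgroup E) :=
      Subgroup.card_map_of_injective E.subtype_injective
    have hQne : Q₁ ≠ ⊥ := fun e => by
      rw [e, Subgroup.card_bot] at hQ1card
      have h1 := Q.dvd_card_of_dvd_card hqe
      rw [← hQ1card] at h1
      exact hq.not_dvd_one h1
    obtain ⟨⟨y₀, hy₀⟩, hy₀1⟩ := Q₁.ne_bot_iff_exists_ne_one.1 hQne
    have hNQ : Subgroup.normalizer (Q₁ : Set G) ≤ NE := fun g hg =>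
      h.mem_NE_of_conj (hQE hy₀) (fun e => hy₀1 (Subtype.ext e))
        (hQE ((Subgroup.mem_normalizer_iff.1 hg y₀).1 hy₀))
    have hNC : Subgroup.normalizer (Q₁ : Set G) ≤ Subgroup.centralizer (Q₁ : Set G) := by
      intro g hg
      refine Subgroup.mem_centralizer_iff.2 ?_
      rintro _ ⟨y, hy, rfl⟩
      rcases hcov g (hNQ hg) with hgE | ⟨z, hz, rfl⟩
      · exact h.comm y.2 hgE
      · have hc := hQc y hy
        rw [mul_inv_eq_iff_eq_mul] at hc
        show (y : G) * (s * z) = s * z * y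
        rw [← mul_assoc, ← hc, mul_assoc, h.comm y.2 hz, ← mul_assoc]
    -- a Sylow subgroup of the whole group
    obtain ⟨R, hR⟩ := (Q.isPGroup'.map E.subtype).exists_le_sylow
    have hRQ : (R : Subgroup G) = Q₁ := by
      refine (eq_of_le_of_not_lt hR fun hlt => ?_).symm
      obtain ⟨y, hy⟩ : ∃ y, y ∈ (R : Subgroup G) ∧ y ∈ Subgroup.normalizer (Q₁ : Set G) ∧ y ∉ Q₁ := by
        have hne : Q₁.subgroupOf (R : Subgroup G) < ⊤ :=
          lt_top_iff_ne_top.2 fun e => not_le_of_gt hlt (Subgroup.subgroupOf_eq_top.1 e)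
        have : Group.IsNilpotent (R : Subgroup G) := R.isPGroup'.isNilpotent
        obtain ⟨y, hy, hy'⟩ := SetLike.exists_of_lt (Group.normalizerCondition_of_isNilpotent _ hne)
        refine ⟨y, y.2, Subgroup.mem_normalizer_iff.2 fun a => ⟨fun ha => ?_, fun ha => ?_⟩, hy'⟩
        · exact (Subgroup.mem_normalizer_iff.1 hy ⟨a, hR ha⟩).1 ha
        · have haR : a ∈ (R : Subgroup G) := by
            have := mul_mem (mul_mem (inv_mem y.2) (hR ha)) y.2
            rwa [show (y : G)⁻¹ * ((y : G) * a * (y : G)⁻¹) * (y : G) = a by group] at this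
          exact (Subgroup.mem_normalizer_iff.1 hy ⟨a, haR⟩).2 ha
      obtain ⟨hyR, hyN, hyQ⟩ := hy
      have hle : Q₁ ⊔ Subgroup.zpowers y ≤ NE := sup_le
        (hQE.trans Subgroup.le_normalizer) (Subgroup.zpowers_le.2 (hNQ hyN))
      obtain ⟨k, hk⟩ := IsPGroup.iff_card.1 ((R.isPGroup'.to_le
        (sup_le hR (Subgroup.zpowers_le.2 hyR) : Q₁ ⊔ Subgroup.zpowers y ≤ (R : Subgroup G))))
      have hd := Subgroup.card_dvd_of_le hle
      rw [h.normCard, hk] at hd
      have hq2 : q ≠ 2 := fun e => by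
        subst e
        exact hodd.not_two_dvd_nat hqe
      have hd' : q ^ k ∣ Nat.card E :=
        ((Nat.coprime_primes hq Nat.prime_two).2 hq2).pow_left k |>.dvd_of_dvd_mul_left hd
      have hd2 : q ^ k ∣ Nat.card (Q : Subgroup E) := by
        rw [Q.card_eq_multiplicity]
        exact pow_dvd_pow q ((hq.pow_dvd_iff_le_factorization Nat.card_pos.ne').1 hd')
      have hle' := Nat.le_of_dvd Nat.card_pos hd2
      rw [← hQ1card, ← hk] at hle'
      exact hyQ ((Subgroup.eq_of_le_of_card_ge (le_sup_left : Q₁ ≤ Q₁ ⊔ Subgroup.zpowers y)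
        hle').symm ▸ (le_sup_right : _ ≤ Q₁ ⊔ Subgroup.zpowers y) (Subgroup.mem_zpowers y))
    obtain ⟨R', N, hN, hc⟩ := Fusion.hasNormalPComplement_of_normalizer_le_centralizer (P := R)
      (by
        show Subgroup.normalizer ((R : Subgroup G) : Set G) ≤ Subgroup.centralizer ((R : Subgroup G) : Set G)
        rw [hRQ]; exact hNC)
    rcases hN.eq_bot_or_eq_top with e | e
    · rw [e, Subgroup.isComplement'_bot_left] at hc
      refine h.not_solvable ?_
      have hG : IsPGroup q G := IsPGroup.iff_card.2 (by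
        obtain ⟨k, hk⟩ := IsPGroup.iff_card.1 R'.isPGroup'
        exact ⟨k, by rw [← hk, hc, Subgroup.card_top]⟩)
      have := hG.isNilpotent
      infer_instance
    · rw [e, Subgroup.isComplement'_top_left] at hc
      have h1 := R'.dvd_card_of_dvd_card (hqe.trans (Subgroup.card_subgroup_dvd_card E))
      rw [hc, Subgroup.card_bot] at h1
      exact hq.not_dvd_one h1
  -- conclude
  have hco : IsCoprime ((Nat.card E : ℤ)) (r - 1) := by
    refine Int.isCoprime_iff_nat_coprime.2 (Nat.coprime_of_dvd fun q hq h1 h2 => ?_)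
    exact hnot q hq (by simpa using h1) (Int.natCast_dvd.2 h2)
  exact hco.dvd_of_dvd_mul_left hr2


/-- The linear characters of `E`. -/
noncomputable def Hyp.muE (C : PrimeSpherical.Ctx (P : Subgroup G) p (Nat.card E)) (j : ℕ) :
    E →* ℂˣ :=
  (C.lam ^ j).comp (Subgroup.inclusion h.E_le)

theorem Hyp.muE_coe (C : PrimeSpherical.Ctx (P : Subgroup G) p (Nat.card E)) (j : ℕ) (x : E) :
    ((h.muE C j x : ℂˣ) : ℂ) = C.mu j ⟨x, h.E_le x.2⟩ :=
  rfl

theorem Hyp.dvd_of_muE_eq_one {C : PrimeSpherical.Ctx (P : Subgroup G) p (Nat.card E)}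
    (hinj : ∀ x ∈ E, ∀ hx : x ∈ NP, C.lam ⟨x, hx⟩ = 1 → x = 1) {j : ℕ}
    (hj : h.muE C j = 1) : Nat.card E ∣ j := by
  have := h.cyclic.1
  obtain ⟨g₀, hg₀⟩ := IsCyclic.exists_generator (α := E)
  rw [← orderOf_eq_card_of_forall_mem_zpowers hg₀, ← Subgroup.orderOf_coe]
  refine orderOf_dvd_of_pow_eq_one (hinj _ (pow_mem g₀.2 j) (h.E_le (pow_mem g₀.2 j)) ?_)
  have h1 := DFunLike.congr_fun hj g₀
  rw [← show C.lam ⟨(g₀ : G), h.E_le g₀.2⟩ ^ j = 1 from h1, ← map_pow]
  rfl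

theorem Hyp.mu_E_inv (C : PrimeSpherical.Ctx (P : Subgroup G) p (Nat.card E)) (j : ℕ) (x : E) :
    C.mu j ⟨(x : G), h.E_le x.2⟩⁻¹ = ((h.muE C j x : ℂˣ) : ℂ)⁻¹ :=
  eq_inv_of_mul_eq_one_right (by rw [h.muE_coe]; exact C.mu_mul_inv j _)

/-- A character attached to the `j`-th eigencharacter. -/
structure IsExc (C : PrimeSpherical.Ctx (P : Subgroup G) p (Nat.card E)) (j : ℕ) (Y : G → ℂ) :
    Prop where
  irr : Cfsg.IsIrrCharacter G Y
  one : Y 1 = p + 1
  onP : ∀ u ∈ (P : Subgroup G), u ≠ 1 → Y u = 1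
  real : ∀ g, Y g⁻¹ = Y g
  onE : ∀ x : E, x ≠ 1 → Y (x : G) = ((h.muE C j x : ℂˣ) : ℂ) + ((h.muE C j x : ℂˣ) : ℂ)⁻¹

variable {W : Cfsg.IrrCharacter G}

/-- The exceptional characters. -/
theorem Hyp.exists_Y [IsSimpleGroup G] (hW : Cfsg.charDegree (W : G → ℂ) = p)
    (huniq : ∀ χ : Cfsg.IrrCharacter G, Cfsg.charDegree (χ : G → ℂ) = p → χ = W)
    (hodd : Odd (Nat.card E)) {C : PrimeSpherical.Ctx (P : Subgroup G) p (Nat.card E)}
    (hinj : ∀ x ∈ E, ∀ hx : x ∈ NP, C.lam ⟨x, hx⟩ = 1 → x = 1) {j : ℕ} (hj0 : 0 < j)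
    (hje : j < Nat.card E) : ∃ Y : G → ℂ, IsExc h C j Y := by
  have := Fintype.ofFinite G
  let _ : Fintype E := Fintype.ofFinite _
  have hp : p.Prime := Fact.out
  obtain ⟨s, hs, hs2, hsE, hcov⟩ := h.exists_invol hodd
  set μ := h.muE C j with hμdef
  have hμ1 : μ ≠ 1 := fun e => by
    have := Nat.le_of_dvd hj0 (h.dvd_of_muE_eq_one hinj e)
    omega
  have hμ2 : μ * μ ≠ 1 := fun e => by
    have h1 : h.muE C (2 * j) = 1 := MonoidHom.ext fun x => by
      rw [← DFunLike.congr_fun e x]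
      show (C.lam _) ^ (2 * j) = (C.lam _) ^ j * (C.lam _) ^ j
      rw [two_mul, pow_add]
    have h2 := Nat.le_of_dvd hj0 ((Nat.coprime_two_right.2 hodd).dvd_of_dvd_mul_left
      (h.dvd_of_muE_eq_one hinj h1))
    omega
  have hd : Invol.SectionData E μ NE := by
    refine ⟨Subgroup.le_normalizer, h.normCard, fun x hx g hg _ => ?_, fun g hg x => ?_⟩
    · exact h.mem_NE_of_conj x.2 (fun e => hx (by
        rw [show x = 1 from Subtype.ext e, map_one])) hg
    · refine ⟨(Subgroup.mem_normalizer_iff.1 hg _).1 x.2, fun hgE => ?_, fun hgE => ?_⟩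
      · congr 1
        refine Subtype.ext ?_
        show g * (x : G) * g⁻¹ = x
        rw [← h.comm x.2 hgE, mul_inv_cancel_right]
      · rw [← map_inv]
        congr 1
        refine Subtype.ext ?_
        show g * (x : G) * g⁻¹ = (x : G)⁻¹
        rcases hcov g hg with hg' | ⟨y, hy, rfl⟩
        · exact absurd hg' hgE
        · rw [show s * y * (x : G) * (s * y)⁻¹ = s * (y * x * y⁻¹) * s⁻¹ by group,
            h.comm hy x.2, mul_inv_cancel_right]
          exact h.inverts hodd hs hs2 hcov x.2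
  set Φ := Invol.secInd E μ with hΦdef
  have hΦc : Cfsg.IsClassFunction G Φ := Char.isClassFunction_indFun E _
  have hΦ0 : ∀ g : G, (∀ x : E, x ≠ 1 → ¬ IsConj (x : G) g) → Φ g = 0 := fun g hg =>
    Invol.secInd_eq_zero E μ fun a ha => by
      by_contra hne
      exact hg ⟨_, ha⟩ (fun e => hne (by rw [e, map_one]))
        (isConj_iff.2 ⟨a⁻¹, by group⟩)
  have hΦE : ∀ x : E, x ≠ 1 → Φ (x : G) = 2 - (μ x : ℂ) - (μ x : ℂ)⁻¹ := by
    intro x hx
    by_cases hμx : μ x = 1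
    · rw [hμx, Units.val_one, inv_one]
      norm_num
      refine Invol.secInd_eq_zero E μ fun a ha => ?_
      have hx1 : (x : G) ≠ 1 := fun e => hx (Subtype.ext e)
      rcases hcov a (h.mem_NE_of_conj x.2 hx1 ha) with ha' | ⟨y, hy, rfl⟩
      · rw [← hμx]
        congr 1
        refine Subtype.ext ?_
        show a * (x : G) * a⁻¹ = x
        rw [← h.comm x.2 ha', mul_inv_cancel_right]
      · rw [← inv_one, ← hμx, ← map_inv]
        congr 1
        refine Subtype.ext ?_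
        show s * y * (x : G) * (s * y)⁻¹ = (x : G)⁻¹
        rw [show s * y * (x : G) * (s * y)⁻¹ = s * (y * x * y⁻¹) * s⁻¹ by group,
          h.comm hy x.2, mul_inv_cancel_right]
        exact h.inverts hodd hs hs2 hcov x.2
    · exact hd.secInd_eq hμx
  have hΦ1 : Φ 1 = 0 := hΦ0 1 fun x hx hc => by
    obtain ⟨c, hc⟩ := isConj_iff.1 hc
    exact hx (Subtype.ext (conj_eq_one_iff.1 hc))
  have hΦW : Cfsg.classInner Φ (W : G → ℂ) = 1 := by
    rw [hΦdef, Invol.secInd, Char.classInner_indFun_left E _ (Char.isClassFunction_of_isIrr W.2),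
      Cfsg.classInner]
    rw [Finset.sum_congr rfl (g := fun x : E => 1 - (μ x : ℂ)) fun x _ => by
      by_cases hx : x = 1
      · rw [hx, map_one, Units.val_one, sub_self, zero_mul]
      · rw [h.W_eq_one hW huniq hodd x.2 fun e => hx (Subtype.ext e), map_one, mul_one]]
    rw [Finset.sum_sub_distrib, Invol.sum_hom_coe μ hμ1, sub_zero, Finset.sum_const,
      Finset.card_univ, nsmul_one, ← Nat.card_eq_fintype_card,
      inv_mul_cancel₀ (Nat.cast_ne_zero.2 Nat.card_pos.ne')]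
  obtain ⟨S, σ, hScard, hS, hS0, hSinner, hSsum⟩ :=
    Invol.exists_signed_support (Invol.isGeneralized_secInd E μ) (n := 3) (by norm_num)
      (Invol.classInner_secInd_one hμ1) (by rw [(hd.classInner_self hμ1).1 hμ2]; norm_num)
  have hW1 := h.W_one hW
  have hWne : (W : G → ℂ) ≠ fun _ => 1 := fun e => by
    have := congrFun e 1
    rw [hW1] at this
    exact hp.one_lt.ne' (by exact_mod_cast this)
  have hWS : W ∈ S := by
    by_contra hn
    exact one_ne_zero (hΦW.symm.trans (hS0 W hWne hn))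
  have hσW : σ W = 1 := (hSinner W hWS).symm.trans hΦW
  obtain ⟨B, hB⟩ := Finset.card_eq_one.1 (show (S.erase W).card = 1 by
    rw [Finset.card_erase_of_mem hWS]; omega)
  have hBS : B ∈ S := Finset.mem_of_mem_erase (hB.symm ▸ Finset.mem_singleton_self B)
  have hexp : ∀ g, Φ g = 1 + (W : G → ℂ) g + σ B * (B : G → ℂ) g := by
    intro g
    rw [← Invol.apply_eq_sum hΦc g, hSsum (fun χ => (χ : G → ℂ) g), ← Finset.add_sum_erase _ _ hWS,
      hσW, one_mul, hB, Finset.sum_singleton, add_assoc]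
  obtain ⟨n, hn0, hn⟩ := Char.IsIrr.degree B.2
  have hσB : σ B = -1 := by
    refine (hS B hBS).2.resolve_left fun e => ?_
    have := hexp 1
    rw [hΦ1, e, one_mul, hW1, hn] at this
    have h' : (0 : ℕ) = 1 + p + n := by exact_mod_cast this
    omega
  have hY : ∀ g, (B : G → ℂ) g = 1 + (W : G → ℂ) g - Φ g := fun g => by
    rw [hexp g, hσB]; ring
  refine ⟨_, B.2, ?_, fun u hu hu1 => ?_, fun g => ?_, fun x hx => ?_⟩
  · rw [hY, hΦ1, hW1]; ring
  · rw [hY, h.vanish hW (by rw [h.orderP hu hu1]), hΦ0 u fun x hx hc => ?_]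
    · ring
    · have h1 := Subgroup.orderOf_dvd_natCard E x.2
      obtain ⟨c, hc'⟩ := isConj_iff.1 hc
      rw [← (MulAut.conj c).orderOf_eq (x : G), MulAut.conj_apply, hc', h.orderP hu hu1] at h1
      exact h.coprime h1
  · rw [hY, hY, Char.IsChar.inv_eq_conj (Char.IsIrr.isCharacter W.2), h.W_real hW huniq]
    congr 1
    by_cases hc : ∃ x : E, x ≠ 1 ∧ IsConj (x : G) g
    · obtain ⟨x, hx, hxg⟩ := hc
      have hxg' : IsConj (((x⁻¹ : E) : G)) g⁻¹ := by
        obtain ⟨c, hc⟩ := isConj_iff.1 hxg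
        exact isConj_iff.2 ⟨c, by rw [← hc, InvMemClass.coe_inv]; group⟩
      rw [← Char.classFun_isConj hΦc hxg, ← Char.classFun_isConj hΦc hxg', hΦE x hx,
        hΦE x⁻¹ (inv_ne_one.2 hx), map_inv, Units.val_inv_eq_inv_val, inv_inv]
      ring
    · push Not at hc
      rw [hΦ0 g hc, hΦ0 g⁻¹ fun x hx hxg => hc x⁻¹ (inv_ne_one.2 hx) ?_]
      obtain ⟨c, hc'⟩ := isConj_iff.1 hxg
      exact isConj_iff.2 ⟨c, by rw [InvMemClass.coe_inv, ← inv_inv g, ← hc']; group⟩
  · rw [hY, h.W_eq_one hW huniq hodd x.2 fun e => hx (Subtype.ext e), hΦE x hx]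
    ring

/-- A sum over the normalizer. -/
theorem Hyp.sum_NP [Fintype E] [Fintype (P : Subgroup G)] [Fintype NP] (F : NP → ℂ) :
    ∑ n, F n = ∑ x : E, ∑ u : (P : Subgroup G),
      F (⟨x, h.E_le x.2⟩ * ⟨u, Subgroup.le_normalizer u.2⟩) := by
  refine Eq.trans ?_ (Fintype.sum_prod_type fun a : E × (P : Subgroup G) =>
    F (⟨a.1, h.E_le a.1.2⟩ * ⟨a.2, Subgroup.le_normalizer a.2.2⟩))
  symm
  refine Fintype.sum_bijective (fun a : E × (P : Subgroup G) =>
    ((⟨a.1, h.E_le a.1.2⟩ * ⟨a.2, Subgroup.le_normalizer a.2.2⟩ : NP)))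
    ⟨fun a b hab => ?_, fun n => ?_⟩ _ _ fun _ => rfl
  · obtain ⟨h1, h2⟩ := h.decomp_unique a.1.2 b.1.2 a.2.2 b.2.2 (congrArg Subtype.val hab)
    exact Prod.ext (Subtype.ext h1) (Subtype.ext h2)
  · obtain ⟨x, hx, u, hu, he⟩ := h.exists_decomp n.2
    exact ⟨(⟨x, hx⟩, ⟨u, hu⟩), Subtype.ext he.symm⟩

variable {h} {C : PrimeSpherical.Ctx (P : Subgroup G) p (Nat.card E)} {j : ℕ} {Y : G → ℂ}

theorem IsExc.sum_P [Fintype (P : Subgroup G)] (hY : IsExc h C j Y) :
    ∑ u : (P : Subgroup G), Y u = (p : ℂ) * 2 := by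
  rw [← Finset.add_sum_erase _ _ (Finset.mem_univ (1 : (P : Subgroup G))), OneMemClass.coe_one,
    hY.one, Finset.sum_congr rfl (g := fun _ => (1 : ℂ)) fun (u : (P : Subgroup G)) hu =>
      hY.onP u u.2 fun e => (Finset.mem_erase.1 hu).1 (Subtype.ext e),
    Finset.sum_const, Finset.card_erase_of_mem (Finset.mem_univ _), Finset.card_univ,
    ← Nat.card_eq_fintype_card, h.cardP, nsmul_one, Nat.cast_sub (Fact.out : p.Prime).pos]
  push_cast
  ring

theorem IsExc.sum_mu [Fintype G] (hY : IsExc h C j Y) (i : ℕ) :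
    ∑ n : NP, C.mu i n⁻¹ * Y n = (p : ℂ) *
      ((∑ x : E, ((h.muE C i x : ℂˣ) : ℂ)⁻¹ * ((h.muE C j x : ℂˣ) : ℂ)) +
        ∑ x : E, ((h.muE C i x : ℂˣ) : ℂ)⁻¹ * ((h.muE C j x : ℂˣ) : ℂ)⁻¹) := by
  rw [h.sum_NP, ← Finset.sum_add_distrib, Finset.mul_sum]
  refine Finset.sum_congr rfl fun x _ => ?_
  have hμ : ∀ u : (P : Subgroup G),
      C.mu i (⟨x, h.E_le x.2⟩ * ⟨u, Subgroup.le_normalizer u.2⟩)⁻¹ =
        ((h.muE C i x : ℂˣ) : ℂ)⁻¹ := by
    intro u
    rw [_root_.mul_inv_rev, map_mul, C.mu_of_mem i (inv_mem u.2), one_mul, h.mu_E_inv]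
  simp only [hμ, ← Finset.mul_sum, Subgroup.coe_mul]
  by_cases hx : x = 1
  · subst hx
    simp only [OneMemClass.coe_one, one_mul, map_one, Units.val_one, inv_one]
    rw [hY.sum_P]
    ring
  · rw [Finset.sum_congr rfl (g := fun _ => Y (x : G)) fun u _ =>
      (Char.classFun_isConj (Char.isClassFunction_of_isIrr hY.irr)
        (h.conj_translate x.2 (fun e => hx (Subtype.ext e)) u.2)).symm,
      Finset.sum_const, Finset.card_univ, ← Nat.card_eq_fintype_card, h.cardP, nsmul_eq_mul,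
      hY.onE x hx]
    ring

end Cfsg.Agent.UniqueP
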