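import Mathlib
import Cfsg.Agent.BlockApp.SelfCentralPrime
import Cfsg.Agent.PrimeSpherical.Spherical
import Cfsg.Agent.UniqueP.Exceptional

/-!
# An irreducible character of degree `|E|`

The exceptional characters are the only irreducible characters whose degree is less than the sum
of their values on `P`.  In the principal block this forces an exceptional degree `|E|`.
-/

set_option autoImplicit false

namespace Cfsg.Agent.UniqueP

open Cfsg.Agent MulAction
open scoped ComplexConjugate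
open scoped _root_.Classical

universe u

variable {α : Type u} [Fintype α] [DecidableEq α] {p : ℕ} [Fact p.Prime]
  {G : Subgroup (Equiv.Perm α)} {P : Sylow p G} {E : Subgroup G} (h : Hyp P E)
include h

local notation "NP" => Subgroup.normalizer (SetLike.coe (P : Subgroup G))

theorem Hyp.muE_add (C : PrimeSpherical.Ctx (P : Subgroup G) p (Nat.card E)) (i j : ℕ) :
    h.muE C (i + j) = h.muE C i * h.muE C j := by
  ext x
  simp [Hyp.muE, pow_add]

theorem Hyp.muE_injective {C : PrimeSpherical.Ctx (P : Subgroup G) p (Nat.card E)}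
    (hinj : ∀ x ∈ E, ∀ hx : x ∈ NP, C.lam ⟨x, hx⟩ = 1 → x = 1) {i j : ℕ} (hi : i < Nat.card E)
    (hj : j < Nat.card E) (he : h.muE C i = h.muE C j) : i = j := by
  wlog hle : i ≤ j generalizing i j
  · exact (this hj hi he.symm (le_of_not_ge hle)).symm
  have h1 : h.muE C (j - i) = 1 := by
    have h2 := h.muE_add C i (j - i)
    rw [Nat.add_sub_cancel' hle, ← he] at h2
    exact MonoidHom.ext fun x => mul_eq_left.1 (DFunLike.congr_fun h2.symm x)
  rcases Nat.eq_zero_or_pos (j - i) with h3 | h3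
  · omega
  · have := Nat.le_of_dvd h3 (h.dvd_of_muE_eq_one hinj h1)
    omega

theorem Hyp.sum_muE [Fintype G] (C : PrimeSpherical.Ctx (P : Subgroup G) p (Nat.card E))
    (i j : ℕ) : (∑ x : E, ((h.muE C i x : ℂˣ) : ℂ)⁻¹ * ((h.muE C j x : ℂˣ) : ℂ)) =
      if h.muE C i = h.muE C j then (Nat.card E : ℂ) else 0 := by
  split_ifs with he
  · rw [he, Finset.sum_congr rfl (g := fun _ => (1 : ℂ)) fun x _ => inv_mul_cancel₀ (Units.ne_zero _),
      Finset.sum_const, Finset.card_univ, nsmul_one, Nat.card_eq_fintype_card]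
  · rw [← Invol.sum_hom_coe ((h.muE C i)⁻¹ * h.muE C j) fun e => he (MonoidHom.ext fun x => inv_mul_eq_one.1 (DFunLike.congr_fun e x))]
    exact Finset.sum_congr rfl fun x _ => by simp

theorem Hyp.sum_muE_inv [Fintype G] (C : PrimeSpherical.Ctx (P : Subgroup G) p (Nat.card E))
    (i j : ℕ) : (∑ x : E, ((h.muE C i x : ℂˣ) : ℂ)⁻¹ * ((h.muE C j x : ℂˣ) : ℂ)⁻¹) =
      if h.muE C (i + j) = 1 then (Nat.card E : ℂ) else 0 := by
  split_ifs with he
  · rw [Finset.sum_congr rfl (g := fun _ => (1 : ℂ)) fun x _ => ?_,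
      Finset.sum_const, Finset.card_univ, nsmul_one, Nat.card_eq_fintype_card]
    have h1 := DFunLike.congr_fun he x
    rw [h.muE_add] at h1
    rw [← _root_.mul_inv_rev, mul_comm, ← Units.val_mul, show h.muE C i x * h.muE C j x = 1 from h1]
    simp
  · rw [← Invol.sum_hom_coe (h.muE C (i + j))⁻¹ fun e => he (MonoidHom.ext fun x => inv_eq_one.1 (DFunLike.congr_fun e x))]
    refine Finset.sum_congr rfl fun x _ => ?_
    rw [h.muE_add]
    simp [mul_comm]

theorem Hyp.three_le' : 3 ≤ p := by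
  have h1 := h.one_lt_card
  have h2 := Nat.le_of_dvd (Nat.sub_pos_of_lt (Fact.out : p.Prime).one_lt) h.cyclic.2
  omega

theorem Hyp.two_mul_card_lt (hodd : Odd (Nat.card E)) : 2 * Nat.card E + 1 ≤ p := by
  have hp : p.Prime := Fact.out
  have h2 : p ≠ 2 := by have := h.three_le'; omega
  obtain ⟨k, hk⟩ := hp.odd_of_ne_two h2
  have h1 : 2 * Nat.card E ∣ p - 1 :=
    (Nat.coprime_two_left.2 hodd).mul_dvd_of_dvd_of_dvd ⟨k, by omega⟩ h.cyclic.2
  have := Nat.le_of_dvd (Nat.sub_pos_of_lt hp.one_lt) h1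
  omega

variable {W : Cfsg.IrrCharacter G}

open PrimeSpherical in
/-- There is an irreducible character of degree `|E|`. -/
theorem Hyp.exists_degree [IsSimpleGroup G] (hW : Cfsg.charDegree (W : G → ℂ) = p)
    (huniq : ∀ χ : Cfsg.IrrCharacter G, Cfsg.charDegree (χ : G → ℂ) = p → χ = W)
    (hodd : Odd (Nat.card E)) :
    ∃ χ : Cfsg.IrrCharacter G, Cfsg.charDegree (χ : G → ℂ) = Nat.card E := by
  have := Fintype.ofFinite G
  have hp : p.Prime := Fact.out
  have hpc : (p : ℂ) ≠ 0 := Nat.cast_ne_zero.2 hp.ne_zero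
  have h2e := h.two_mul_card_lt hodd
  have he1 := h.one_lt_card
  obtain ⟨n, hn⟩ := hodd
  have hodd : Odd (Nat.card E) := ⟨n, hn⟩
  obtain ⟨C, hinj⟩ := h.exists_ctx
  obtain ⟨V, hV⟩ := exists_place hp
  let o : Cfsg.IrrCharacter G := ⟨fun _ => 1, Char.isIrrCharacter_one⟩
  -- the exceptional characters of `E`
  have hex : ∀ j, ∃ Y : Cfsg.IrrCharacter G, 0 < j → j < Nat.card E →
      IsExc h C j (Y : G → ℂ) := fun j => by
    by_cases hj : 0 < j ∧ j < Nat.card E
    · obtain ⟨Y, hY⟩ := h.exists_Y hW huniq hodd hinj hj.1 hj.2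
      exact ⟨⟨Y, hY.irr⟩, fun _ _ => hY⟩
    · exact ⟨o, fun h1 h2 => absurd ⟨h1, h2⟩ hj⟩
  choose Y hY using hex
  -- their multiplicities
  have hmult : ∀ i j, i < Nat.card E → 0 < j → j < Nat.card E →
      (∑ m : NP, C.mu i m⁻¹ * (Y j : G → ℂ) m) =
        if i = j ∨ i + j = Nat.card E then (p : ℂ) * Nat.card E else 0 := by
    intro i j hi hj0 hj
    rw [(hY j hj0 hj).sum_mu i, h.sum_muE, h.sum_muE_inv]
    have e1 : h.muE C i = h.muE C j ↔ i = j :=
      ⟨h.muE_injective hinj hi hj, fun e => by rw [e]⟩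
    have e2 : h.muE C (i + j) = 1 ↔ i + j = Nat.card E := by
      refine ⟨fun e => ?_, fun e => ?_⟩
      · obtain ⟨k, hk⟩ := h.dvd_of_muE_eq_one hinj e
        have hk1 : k < 2 := Nat.lt_of_mul_lt_mul_left (a := Nat.card E) (by omega)
        have hk0 : k ≠ 0 := fun e' => by
          rw [e', mul_zero] at hk
          omega
        rw [show k = 1 by omega, mul_one] at hk
        exact hk
      · ext x
        show ((C.lam ^ (i + j)) ⟨(x : G), h.E_le x.2⟩ : ℂ) = 1
        rw [e, MonoidHom.pow_apply, C.pow, Units.val_one]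
    simp only [e1, e2]
    by_cases h1 : i = j
    · have h2 : i + j ≠ Nat.card E := by omega
      rw [if_pos h1, if_neg h2, if_pos (Or.inl h1), add_zero]
    · by_cases h2 : i + j = Nat.card E
      · rw [if_neg h1, if_pos h2, if_pos (Or.inr h2), zero_add]
      · rw [if_neg h1, if_neg h2, if_neg (not_or.2 ⟨h1, h2⟩), add_zero, mul_zero]
  -- values fixed by a power of the Frobenius
  obtain ⟨m, hm⟩ := h.dvd_card
  have hpm : ¬ p ∣ m := fun hd => h.not_sq_dvd (by rw [hm, sq]; exact mul_dvd_mul_left p hd)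
  have hm0 : 0 < m := Nat.pos_of_ne_zero fun e => by
    rw [e, mul_zero] at hm
    exact Nat.card_pos.ne' hm
  set k := Nat.totient m with hk
  have hk0 : 0 < k := Nat.totient_pos.2 hm0
  have hmq : m ∣ p ^ k - 1 := (Nat.modEq_iff_dvd' (Nat.one_le_pow _ _ hp.pos)).1
    (Nat.ModEq.pow_totient (hp.coprime_iff_not_dvd.2 hpm)).symm
  have heq : Nat.card E ∣ p ^ k - 1 := h.cyclic.2.trans (by simpa using p.sub_dvd_pow_sub_pow 1 k)
  have hsing : ∀ g : G, p ∣ orderOf g →
      ∃ c : G, c * g * c⁻¹ ∈ (P : Subgroup G) ∧ c * g * c⁻¹ ≠ 1 := by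
    intro g hg
    set u := g ^ (orderOf g / p)
    have huo : orderOf u = p := orderOf_pow_orderOf_div (orderOf_pos g).ne' hg
    obtain ⟨c, hc⟩ := BlockThms.OrderP.exists_conj_mem P (u := u) ⟨1, by rw [huo, pow_one]⟩
    have hne : c * u * c⁻¹ ≠ 1 := fun e => by
      rw [conj_eq_one_iff] at e
      rw [e, orderOf_one] at huo
      exact hp.ne_one huo.symm
    refine ⟨c, ?_, fun e => hne ?_⟩
    · rw [← h.centralizerP, Subgroup.mem_centralizer_iff]
      intro v hv
      obtain ⟨i, hi⟩ := Subgroup.mem_zpowers_iff.1 (mem_zpowers_of_prime_card h.cardP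
        (g := (⟨c * u * c⁻¹, hc⟩ : (P : Subgroup G))) (g' := ⟨v, hv⟩)
        fun e => hne (congrArg Subtype.val e))
      have hi' : (c * u * c⁻¹) ^ i = v := by simpa using congrArg Subtype.val hi
      rw [← hi']
      have hcu : Commute (c * u * c⁻¹) (c * g * c⁻¹) := by
        show c * u * c⁻¹ * (c * g * c⁻¹) = c * g * c⁻¹ * (c * u * c⁻¹)
        have := ((Commute.refl g).pow_left (orderOf g / p)).eq
        rw [show c * u * c⁻¹ * (c * g * c⁻¹) = c * (u * g) * c⁻¹ by group,
          show u * g = g * u from this]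
        group
      exact (hcu.zpow_left i).eq
    · rw [conj_eq_one_iff] at e ⊢
      simp [u, e]

  have hval : ∀ j, 0 < j → j < Nat.card E → ∀ g, FrobFixed V p (p ^ k) ((Y j : G → ℂ) g) := by
    intro j hj0 hj g
    by_cases hg : p ∣ orderOf g
    · obtain ⟨c, hc, hc1⟩ := hsing g hg
      rw [Char.classFun_isConj (Char.isClassFunction_of_isIrr (Y j).2)
        (isConj_iff.2 ⟨c, rfl⟩ : IsConj g (c * g * c⁻¹)), (hY j hj0 hj).onP _ hc hc1]
      exact frobFixed_of_pow (m := 1) (one_pow _) one_pos (pow_pos hp.pos k) (one_dvd _)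
    · refine frobFixed_character hp (Char.IsIrr.isCharacter (Y j).2) g ?_
      refine dvd_trans ?_ hmq
      exact ((hp.coprime_iff_not_dvd.2 hg).symm).dvd_of_dvd_mul_left (hm ▸ orderOf_dvd_natCard g)
  have hint : ∀ i j, 0 < i → i < Nat.card E → 0 < j → j < Nat.card E →
      (j = i ∨ j + i = Nat.card E) → ∀ g, sph C (Y i : G → ℂ) j g ∈ V := by
    intro i j hi0 hi hj0 hj hji g
    have hYi := hY i hi0 hi
    obtain ⟨j', hj', c, hc⟩ := exists_wit hV C hYi.irr (d := p + 1) (a := 2)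
      (by rw [hYi.one]; push_cast; rfl) (by rw [hYi.sum_P]; norm_num)
      (by have := hp.two_le; omega)
    have hj'' : j' = i ∨ j' + i = Nat.card E := by
      by_contra hno
      exact hc.mult (by rw [hmult j' i hj' hi0 hi, if_neg hno])
    have hone : ∑ m : NP, C.mu j' m⁻¹ * (Y i : G → ℂ) m = (p : ℂ) * Nat.card E := by
      rw [hmult j' i hj' hi0 hi, if_pos hj'']
    have hmem := sph_mem hV C hk0 heq (hval i hi0 hi) hc hone
    by_cases hjj : j = j'
    · rw [hjj]; exact hmem g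
    · rw [← sph_inv C (Char.isClassFunction_of_isIrr hYi.irr) hYi.real
        (j := j') (k := j) (by omega) g]
      exact hmem _
  -- the sums over `P`
  have hA : ∀ χ : Cfsg.IrrCharacter G, ∃ A : ℕ,
      ∑ u : (P : Subgroup G), (χ : G → ℂ) u = (p : ℂ) * A := by
    intro χ
    obtain ⟨A, hA⟩ := Char.classInner_isCharacter_eq_natCast
      (Char.isCharacter_res (P : Subgroup G) (Char.IsIrr.isCharacter χ.2))
      (Char.isCharacter_one (G := (P : Subgroup G)))
    refine ⟨A, ?_⟩
    rw [Cfsg.classInner, h.cardP] at hA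
    simp only [map_one, mul_one] at hA
    rw [← hA, mul_inv_cancel_left₀ hpc]
  choose A hA using hA
  set d : Cfsg.IrrCharacter G → ℕ := fun χ => Cfsg.charDegree (χ : G → ℂ) with hd
  have hdc : ∀ χ : Cfsg.IrrCharacter G, (χ : G → ℂ) 1 = d χ := fun χ =>
    (Blocks.charDegree_cast (Char.IsIrr.isCharacter χ.2)).symm
  set Ys := (Finset.Icc 1 n).image Y with hYs
  have hge : ∀ χ : Cfsg.IrrCharacter G, χ ≠ o → χ ∉ Ys → p * A χ ≤ d χ := by
    intro χ hχo hχY
    by_contra hlt
    obtain ⟨j, hj, c, hc⟩ := exists_wit hV C χ.2 (hdc χ) (hA χ) (not_le.1 hlt)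
    rcases Nat.eq_zero_or_pos j with rfl | hj0
    · refine false_of_wit hV C (ψ := fun _ => (1 : ℂ)) Char.isIrrCharacter_one
        (fun e => hχo (Subtype.ext e)) (fun g => ?_) ?_ hc
      · simp only [sph, C.mu_zero, one_mul, Finset.sum_const, Finset.card_univ,
          ← Nat.card_eq_fintype_card, C.cardN, nsmul_one, Nat.cast_mul]
        rw [inv_mul_cancel₀ (mul_ne_zero hpc (Nat.cast_ne_zero.2 Nat.card_pos.ne'))]
        exact one_mem V
      · simp only [C.mu_zero, one_mul, Finset.sum_const, Finset.card_univ,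
          ← Nat.card_eq_fintype_card, C.cardN, nsmul_one, Nat.cast_mul]
    · set i := if j ≤ n then j else Nat.card E - j with hi
      have hi0 : 1 ≤ i ∧ i ≤ n := by rw [hi]; split_ifs <;> omega
      have hji : j = i ∨ j + i = Nat.card E := by rw [hi]; split_ifs <;> omega
      have hile : i < Nat.card E := by omega
      refine false_of_wit hV C (Y i).2
        (fun e => hχY (Finset.mem_image.2 ⟨i, Finset.mem_Icc.2 hi0, (Subtype.ext e).symm⟩))
        (hint i j hi0.1 hile hj0 hj hji) ?_ hc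
      rw [hmult j i hj hi0.1 hile, if_pos hji]
  -- the orthogonality of the columns
  have horth : ∑ χ : Cfsg.IrrCharacter G, (d χ : ℂ) * ((d χ : ℂ) - (p : ℂ) * A χ) = 0 := by
    simp only [mul_sub, Finset.sum_sub_distrib, ← hA, ← hdc, Finset.mul_sum]
    rw [Finset.sum_comm, Finset.sum_congr rfl fun (u : (P : Subgroup G)) _ =>
      Char.regular_eq_sum (u : G), Char.regular_eq_sum (1 : G)]
    simp [OneMemClass.coe_eq_one]
  -- the principal block
  have hS : BlockThms.OrderP.Setup P (Nat.card E) := by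
    refine ⟨h.cardP, ?_⟩
    show (Subgroup.centralizer ((P : Subgroup G) : Set G)).relIndex NP = _
    rw [h.centralizerP, Subgroup.relIndex]
    have h1 := ((P : Subgroup G).subgroupOf NP).card_mul_index
    rw [Nat.card_congr (Subgroup.subgroupOfEquivOfLe Subgroup.le_normalizer).toEquiv, h.cardP,
      h.cardN] at h1
    exact Nat.eq_of_mul_eq_mul_left hp.pos h1
  have hC : Nat.card (Subgroup.centralizer (P : Set G)) = p := by
    show Nat.card (Subgroup.centralizer ((P : Subgroup G) : Set G)) = p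
    rw [h.centralizerP, h.cardP]
  obtain ⟨M, hM⟩ := Blocks.exists_isPModular p hp
  obtain ⟨X, T, a, s, hdisj, hXc, hTc, hmem, hs, hX, hT, -, hrel⟩ := hS.principal_structure hM
  have hout : ∀ χ, χ ∉ X ∪ T → (p : ℂ) * A χ = d χ := by
    intro χ hχ
    rw [← hA, Finset.sum_eq_single (1 : (P : Subgroup G)) (fun u _ hu => ?_)
      (fun hh => absurd (Finset.mem_univ _) hh), OneMemClass.coe_one, hdc]
    have hdvd : p ∣ d χ := BlockApp.PrimeData.dvd_of_notMem hS hC hM fun hb =>
      hχ (Finset.mem_union.2 ((hmem χ).1 hb))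
    exact Char.defect_zero χ.2 hp (n := 1) (by rw [pow_one]; exact h.dvd_card) h.not_sq_dvd
      (hdc χ) (by rw [pow_one]; exact hdvd) _
      (by rw [h.orderP u.2 fun e => hu (Subtype.ext e)])
  have hXA : ∀ χ ∈ X, (p : ℂ) * A χ = (d χ : ℂ) + ((p : ℂ) - 1) * a χ := by
    intro χ hχ
    rw [← hA, ← Finset.add_sum_erase _ _ (Finset.mem_univ (1 : (P : Subgroup G))),
      OneMemClass.coe_one, hdc, Finset.sum_congr rfl (g := fun _ => (a χ : ℂ))
        fun (u : (P : Subgroup G)) hu => ?_,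
      Finset.sum_const, Finset.card_erase_of_mem (Finset.mem_univ _), Finset.card_univ,
      ← Nat.card_eq_fintype_card, h.cardP, nsmul_eq_mul, Nat.cast_sub hp.one_le, Nat.cast_one]
    have h1 := (hX χ hχ).2.2 u u.2 (fun e => (Finset.mem_erase.1 hu).1 (Subtype.ext e)) 1
      (one_mem _) (by rw [orderOf_one, Nat.dvd_one]; exact hp.ne_one)
    rwa [mul_one] at h1
  -- the characters of degree one modulo `p`
  have hmemX : ∀ χ : Cfsg.IrrCharacter G, (d χ = 1 ∨ d χ = p + 1) →
      (∀ u ∈ (P : Subgroup G), u ≠ 1 → (χ : G → ℂ) u = 1) → χ ∈ X ∧ a χ = 1 := by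
    intro χ hdeg hone
    have hnd : ¬ p ∣ d χ := by
      rcases hdeg with e | e <;> rw [e]
      · exact hp.not_dvd_one
      · rw [Nat.dvd_add_self_left]; exact hp.not_dvd_one
    have hχX : χ ∈ X := by
      rcases (hmem χ).1 (by_contra fun hb => hnd (BlockApp.PrimeData.dvd_of_notMem hS hC hM hb))
        with hx | hx
      · exact hx
      · exfalso
        have h1 := hT χ hx
        have h2 : (d χ : ℤ) ≡ 1 [ZMOD p] := by
          rcases hdeg with e | e <;> rw [e]
          · rfl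
          · simp [Int.modEq_iff_dvd]
        have h3 := Int.modEq_iff_dvd.1 (h2.symm.trans h1)
        have h4 := Int.eq_zero_of_abs_lt_dvd h3 (by
          rcases hs with rfl | rfl <;> rw [abs_lt] <;> constructor <;> omega)
        rcases hs with rfl | rfl <;> omega
    refine ⟨hχX, ?_⟩
    obtain ⟨u, hu1⟩ := (P : Subgroup G).ne_bot_iff_exists_ne_one.1 (fun e => by
      have := h.cardP
      rw [e, Subgroup.card_bot] at this
      exact hp.ne_one this.symm)
    have hu1' : (u : G) ≠ 1 := fun e => hu1 (Subtype.ext e)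
    have h1 := (hX χ hχX).2.2 u u.2 hu1' 1 (one_mem _)
      (by rw [orderOf_one, Nat.dvd_one]; exact hp.ne_one)
    rw [mul_one, hone u u.2 hu1'] at h1
    exact_mod_cast h1.symm
  have hYd : ∀ i ∈ Finset.Icc 1 n, IsExc h C i (Y i : G → ℂ) ∧ d (Y i) = p + 1 := by
    intro i hi
    obtain ⟨hi1, hi2⟩ := Finset.mem_Icc.1 hi
    have hYi := hY i hi1 (by omega)
    refine ⟨hYi, Blocks.charDegree_eq ?_⟩
    rw [hYi.one]
    push_cast
    rfl
  have hdo : d o = 1 := Blocks.charDegree_eq (by simp [o])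
  have hoY : o ∉ Ys := fun e => by
    obtain ⟨i, hi, hio⟩ := Finset.mem_image.1 e
    have := (hYd i hi).2
    rw [hio, hdo] at this
    have := hp.pos
    omega
  have hYcard : Ys.card = n := by
    rw [Finset.card_image_of_injOn, Nat.card_Icc, Nat.add_sub_cancel]
    intro i hi i' hi' hii
    rw [Finset.coe_Icc, Set.mem_Icc] at hi hi'
    have h1 := hmult i i (by omega) hi.1 (by omega)
    rw [if_pos (Or.inl rfl), hii, hmult i i' (by omega) hi'.1 (by omega)] at h1
    by_contra hne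
    rw [if_neg (by omega)] at h1
    exact mul_ne_zero hpc (Nat.cast_ne_zero.2 Nat.card_pos.ne') h1.symm
  set U := insert o Ys with hU
  have hUcard : U.card = n + 1 := by rw [hU, Finset.card_insert_of_notMem hoY, hYcard]
  have hUX : ∀ χ ∈ U, χ ∈ X ∧ a χ = 1 := by
    intro χ hχ
    rcases Finset.mem_insert.1 hχ with rfl | hχ
    · exact hmemX _ (Or.inl hdo) fun u _ _ => rfl
    · obtain ⟨i, hi, rfl⟩ := Finset.mem_image.1 hχ
      exact hmemX _ (Or.inr (hYd i hi).2) (hYd i hi).1.onP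
  have hUsub : U ⊆ X := fun χ hχ => (hUX χ hχ).1
  obtain ⟨θ, hθ⟩ : T.Nonempty := by
    rw [← Finset.card_pos, hTc]
    exact Nat.div_pos (Nat.le_of_dvd (Nat.sub_pos_of_lt hp.one_lt) h.cyclic.2) Nat.card_pos
  have hTU : ∀ χ ∈ T, χ ≠ o ∧ χ ∉ Ys := fun χ hχ =>
    ⟨fun e => Finset.disjoint_left.1 hdisj (hUsub (e ▸ Finset.mem_insert_self o Ys)) hχ,
      fun e => Finset.disjoint_left.1 hdisj (hUsub (Finset.mem_insert_of_mem e)) hχ⟩
  have hTd : ∀ χ ∈ T, d χ = d θ := by
    intro χ hχ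
    have h1 := hrel χ hχ 1 (by rw [orderOf_one, Nat.dvd_one]; exact hp.ne_one)
    have h2 := hrel θ hθ 1 (by rw [orderOf_one, Nat.dvd_one]; exact hp.ne_one)
    rw [← h2, add_left_inj, hdc, hdc] at h1
    have h3 := mul_left_cancel₀ (by rcases hs with rfl | rfl <;> norm_num) h1
    exact_mod_cast h3
  -- the relation at the identity
  have hrel1 : (s * d θ + ∑ χ ∈ X, a χ * d χ : ℤ) = 0 := by
    have h1 := hrel θ hθ 1 (by rw [orderOf_one, Nat.dvd_one]; exact hp.ne_one)
    simp only [hdc] at h1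
    exact_mod_cast h1
  -- the sum over the exceptional characters
  have hTsum : ((p : ℤ) - 1) * s * d θ + ∑ χ ∈ T, (d χ : ℤ) * ((d χ : ℤ) - p * A χ) = 0 := by
    rw [← Finset.sum_subset (Finset.subset_univ (X ∪ T)) fun χ _ hχ => by
      rw [hout χ hχ, sub_self, mul_zero], Finset.sum_union hdisj,
      Finset.sum_congr rfl (g := fun χ => -((p : ℂ) - 1) * ((a χ : ℂ) * d χ))
        fun χ hχ => by rw [hXA χ hχ]; ring, ← Finset.mul_sum] at horth
    have h1 : -((p : ℤ) - 1) * (∑ χ ∈ X, a χ * d χ) +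
        ∑ χ ∈ T, (d χ : ℤ) * ((d χ : ℤ) - p * A χ) = 0 := by exact_mod_cast horth
    linear_combination h1 + ((p : ℤ) - 1) * hrel1
  have hθpos : 0 < d θ := by
    obtain ⟨r, hr0, hr⟩ := Char.IsIrr.degree θ.2
    rw [hdc] at hr
    rw [show d θ = r by exact_mod_cast hr]
    exact hr0
  have hs1 : s = -1 := by
    refine hs.resolve_left fun e => ?_
    rw [e, mul_one] at hTsum
    have h1 : 0 ≤ ∑ χ ∈ T, (d χ : ℤ) * ((d χ : ℤ) - p * A χ) := Finset.sum_nonneg fun χ hχ =>
      mul_nonneg (Int.natCast_nonneg _)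
        (sub_nonneg.2 (by exact_mod_cast hge χ (hTU χ hχ).1 (hTU χ hχ).2))
    have h2 : 0 < ((p : ℤ) - 1) * d θ :=
      mul_pos (by have := hp.two_le; omega) (by exact_mod_cast hθpos)
    omega
  -- the remaining characters of the block have degree at least `p - 1`
  have hR : ∀ χ ∈ X \ U, a χ * d χ ≤ -((p : ℤ) - 1) := by
    intro χ hχ
    obtain ⟨hχX, hχU⟩ := Finset.mem_sdiff.1 hχ
    rw [hU, Finset.mem_insert, not_or] at hχU
    have h1 : (p : ℤ) * A χ = (d χ : ℤ) + ((p : ℤ) - 1) * a χ := by exact_mod_cast hXA χ hχX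
    have h2 : (p : ℤ) * A χ ≤ d χ := by exact_mod_cast hge χ hχU.1 hχU.2
    have hp2 := hp.two_le
    rcases (hX χ hχX).1 with e | e
    · rw [e] at h1; omega
    · rw [e] at h1 ⊢
      have h3 : (0 : ℤ) ≤ (p : ℤ) * A χ := mul_nonneg (Int.natCast_nonneg _) (Int.natCast_nonneg _)
      omega
  have hUs : ∑ χ ∈ U, a χ * (d χ : ℤ) = 1 + n * ((p : ℤ) + 1) := by
    rw [hU, Finset.sum_insert hoY, (hUX o (Finset.mem_insert_self _ _)).2, hdo,
      Finset.sum_congr rfl (g := fun _ => (p : ℤ) + 1) fun χ hχ => ?_, Finset.sum_const, hYcard,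
      nsmul_eq_mul, Nat.cast_one, mul_one]
    rw [(hUX χ (Finset.mem_insert_of_mem hχ)).2, one_mul]
    obtain ⟨i, hi, rfl⟩ := Finset.mem_image.1 hχ
    rw [(hYd i hi).2]
    push_cast
    rfl
  have hle : (d θ : ℤ) ≤ Nat.card E := by
    have h1 := Finset.sum_le_card_nsmul (X \ U) (fun χ => a χ * (d χ : ℤ)) _ hR
    rw [Finset.card_sdiff_of_subset hUsub, hXc, hUcard, show Nat.card E - (n + 1) = n by omega,
      nsmul_eq_mul] at h1
    rw [← Finset.sum_sdiff hUsub, hUs, hs1] at hrel1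
    rw [hn]
    push_cast
    linarith
  refine ⟨θ, ?_⟩
  have h1 : (d θ : ℤ) ≡ -((Nat.card E : ℤ) * s) [ZMOD p] := hT θ hθ
  rw [hs1, mul_neg, mul_one, neg_neg] at h1
  have h2 := Int.eq_zero_of_abs_lt_dvd (Int.modEq_iff_dvd.1 h1) (by
    rw [abs_lt]; constructor <;> omega)
  show d θ = Nat.card E
  omega

end Cfsg.Agent.UniqueP
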