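import Mathlib
import Cfsg.Agent.S0676
import Cfsg.Agent.ConstFour.Recog
import Cfsg.Agent.UniqueP.Frame

/-!
# A complement of even order gives `PSL(2, 5)`

The conjugates of the involution of `E` interchanging two given points are counted.
-/

set_option autoImplicit false

namespace Cfsg.Agent.UniqueP

open Cfsg.Agent MulAction
open scoped _root_.Classical

universe u

/-- The conjugates of `t` under the elements of `K`. -/
noncomputable def conjSet {H : Type*} [Group H] [Fintype H] [DecidableEq H] (t : H) (K : Subgroup H) : Finset H :=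
  (Finset.univ.filter fun g : H => g ∈ K).image fun k => k * t * k⁻¹

theorem mem_conjSet {H : Type*} [Group H] [Fintype H] [DecidableEq H] {t g : H} {K : Subgroup H} :
    g ∈ conjSet t K ↔ ∃ k ∈ K, k * t * k⁻¹ = g := by
  simp [conjSet]

theorem card_filter_mem {H : Type*} [Group H] [Fintype H] (K : Subgroup H)
    [DecidablePred (· ∈ K)] :
    (Finset.univ.filter fun g : H => g ∈ K).card = Nat.card K := by
  rw [Nat.card_eq_fintype_card, Fintype.card_subtype]

variable {α : Type u} [Fintype α] [DecidableEq α] {p : ℕ} [Fact p.Prime]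
  {G : Subgroup (Equiv.Perm α)} {P : Sylow p G} {E : Subgroup G} (h : Hyp P E)
include h

local notation "NP" => Subgroup.normalizer (SetLike.coe (P : Subgroup G))
local notation "NE" => Subgroup.normalizer (SetLike.coe E)

/-- The involution of `E`. -/
theorem Hyp.exists_central_invol (heven : Even (Nat.card E)) :
    ∃ t ∈ E, orderOf t = 2 ∧ Subgroup.centralizer ({t} : Set G) = NE := by
  have : Fact (Nat.Prime 2) := ⟨Nat.prime_two⟩
  have := h.cyclic.1
  obtain ⟨⟨t, ht⟩, hto⟩ := exists_prime_orderOf_dvd_card' (G := E) 2 heven.two_dvd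
  have hto' : orderOf t = 2 := by rw [Subgroup.orderOf_mk] at hto; exact hto
  have ht1 : t ≠ 1 := fun e => by rw [e, orderOf_one] at hto'; omega
  refine ⟨t, ht, hto', le_antisymm (h.centralizer_le ht ht1) fun g hg => ?_⟩
  have hgE : g * t * g⁻¹ ∈ E := (Subgroup.mem_normalizer_iff.1 hg t).1 ht
  have hcard := IsCyclic.card_orderOf_eq_totient (α := E) (d := 2) (by
    rw [← Nat.card_eq_fintype_card]; exact heven.two_dvd)
  rw [Nat.totient_two] at hcard
  have hgo : orderOf (g * t * g⁻¹) = 2 := by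
    rw [← MulAut.conj_apply, MulEquiv.orderOf_eq, hto']
  have he := Finset.card_le_one.1 hcard.le ⟨_, hgE⟩ (Finset.mem_filter.2 ⟨Finset.mem_univ _, by
    rw [Subgroup.orderOf_mk]; exact hgo⟩) ⟨t, ht⟩ (Finset.mem_filter.2 ⟨Finset.mem_univ _, by
    rw [Subgroup.orderOf_mk]; exact hto'⟩)
  have he' : g * t * g⁻¹ = t := congrArg Subtype.val he
  rw [mul_inv_eq_iff_eq_mul] at he'
  exact Subgroup.mem_centralizer_singleton_iff.2 he'

/-- The conjugates of `t` under a subgroup containing its centralizer. -/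
theorem Hyp.card_conj [Fintype G] {t : G} (ht : Subgroup.centralizer ({t} : Set G) = NE)
    {K : Subgroup G} (hK : NE ≤ K) :
    Nat.card K = 2 * Nat.card E *
      (conjSet t K).card := by
  rw [conjSet]
  rw [← card_filter_mem K, Finset.card_eq_sum_card_image (fun k : G => k * t * k⁻¹)
    (Finset.univ.filter fun g : G => g ∈ K), Finset.sum_const_nat (m := 2 * Nat.card E) ?_,
    mul_comm]
  intro b hb
  obtain ⟨k₀, hk₀, rfl⟩ := Finset.mem_image.1 hb
  rw [← h.normCard, ← card_filter_mem NE]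
  simp only [Finset.mem_filter, Finset.mem_univ, true_and] at hk₀
  have hiff : ∀ k : G, k * t * k⁻¹ = k₀ * t * k₀⁻¹ ↔ k₀⁻¹ * k ∈ NE := fun k => by
    rw [← ht, Subgroup.mem_centralizer_singleton_iff]
    constructor
    · intro hk
      have := congrArg (fun z => k₀⁻¹ * z * k) hk
      simpa [mul_assoc] using this
    · intro hk
      have := congrArg (fun z => k₀ * z * k⁻¹) hk
      simpa [mul_assoc] using this
  refine Finset.card_bij' (fun k _ => k₀⁻¹ * k) (fun m _ => k₀ * m) ?_ ?_ ?_ ?_
  · intro k hk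
    simp only [Finset.mem_filter, Finset.mem_univ, true_and] at hk ⊢
    exact (hiff k).1 hk.2
  · intro m hm
    simp only [Finset.mem_filter, Finset.mem_univ, true_and] at hm ⊢
    exact ⟨mul_mem hk₀ (hK hm), (hiff _).2 (by rwa [inv_mul_cancel_left])⟩
  · intro k _; exact mul_inv_cancel_left _ _
  · intro m _; exact inv_mul_cancel_left _ _

theorem Hyp.three_le : 3 ≤ p := by
  have h1 := h.one_lt_card
  have h2 := Nat.le_of_dvd (Nat.sub_pos_of_lt (Fact.out : p.Prime).one_lt) h.cyclic.2
  omega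

/-- Transitivity on triples. -/
theorem Hyp.exists_triple (heven : Even (Nat.card E)) {a b c a' b' c' : α} (hab : a ≠ b)
    (hac : a ≠ c) (hbc : b ≠ c) (hab' : a' ≠ b') (hac' : a' ≠ c') (hbc' : b' ≠ c') :
    ∃ g : G, g • a = a' ∧ g • b = b' ∧ g • c = c' := by
  have := h.trans
  have h3 := S0676.result h.deg G h.not_solvable P (by
    rw [h.cardN]; exact heven.mul_left p)
  have hinj : ∀ x y z : α, x ≠ y → x ≠ z → y ≠ z → Function.Injective ![x, y, z] := by
    intro x y z hxy hxz hyz i j hij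
    fin_cases i <;> fin_cases j <;> first | rfl | (exfalso; simp_all)
  obtain ⟨g, hg⟩ := (isMultiplyPretransitive_iff.1 h3) (⟨_, hinj a b c hab hac hbc⟩ : Fin 3 ↪ α)
    ⟨_, hinj a' b' c' hab' hac' hbc'⟩
  exact ⟨g, by simpa using DFunLike.congr_fun hg 0, by simpa using DFunLike.congr_fun hg 1,
    by simpa using DFunLike.congr_fun hg 2⟩

theorem Hyp.exists_pair (heven : Even (Nat.card E)) {a b a' b' : α} (hab : a ≠ b)
    (hab' : a' ≠ b') : ∃ g : G, g • a = a' ∧ g • b = b' := by
  have hthird : ∀ x y : α, ∃ z, x ≠ z ∧ y ≠ z := by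
    intro x y
    obtain ⟨z, -, hz⟩ := Finset.exists_mem_notMem_of_card_lt_card (s := {x, y})
      (t := (Finset.univ : Finset α)) (by
        rw [Finset.card_univ, h.deg]
        exact lt_of_le_of_lt Finset.card_le_two h.three_le)
    simp only [Finset.mem_insert, Finset.mem_singleton, not_or] at hz
    exact ⟨z, Ne.symm hz.1, Ne.symm hz.2⟩
  obtain ⟨c, hc1, hc2⟩ := hthird a b
  obtain ⟨c', hc1', hc2'⟩ := hthird a' b'
  obtain ⟨g, h1, h2, -⟩ := h.exists_triple heven hab hc1 hc2 hab' hc1' hc2'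
  exact ⟨g, h1, h2⟩

/-- If `E` fixes `a` and has order `p - 1`, its generator is an odd permutation. -/
theorem Hyp.card_ne [IsSimpleGroup G] {a : α} (ha : ∀ x ∈ E, x • a = a)
    (heven : Even (Nat.card E)) : Nat.card E ≠ p - 1 := by
  intro he
  have := h.cyclic.1
  obtain ⟨x₀, hx₀⟩ := IsCyclic.exists_generator (α := E)
  have ho : orderOf (x₀ : G) = Nat.card E := by
    rw [Subgroup.orderOf_coe, orderOf_eq_card_of_forall_mem_zpowers hx₀]
  have hx1 : (x₀ : G) ≠ 1 := fun e => by
    rw [e, orderOf_one] at ho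
    have := h.one_lt_card
    omega
  set f : Equiv.Perm α := ((x₀ : G) : Equiv.Perm α) with hf
  have hpow : ∀ (i : ℕ) (b : α), (f ^ i) b = ((x₀ : G) ^ i) • b := fun i b => rfl
  have hmoved : ∀ b, f b ≠ b ↔ b ≠ a := fun b => by
    constructor
    · intro hb e
      exact hb (e ▸ ha _ x₀.2)
    · intro hb e
      exact hb (h.fix_unique x₀.2 hx1 e (ha _ x₀.2))
  obtain ⟨b, hb⟩ : ∃ b, b ≠ a := by
    obtain ⟨u, v, huv⟩ := Fintype.exists_pair_of_one_lt_card
      (h.deg ▸ (Fact.out : p.Prime).one_lt)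
    by_cases hu : u = a
    · exact ⟨v, fun e => huv (hu.trans e.symm)⟩
    · exact ⟨u, hu⟩
  have hsurj : ∀ c ≠ a, ∃ i : ℕ, (f ^ i) b = c := by
    intro c hc
    have hle : (Finset.univ.erase a) ⊆
        (Finset.range (Nat.card E)).image fun i => (f ^ i) b := by
      refine (Finset.eq_of_subset_of_card_le (fun z hz => ?_) ?_).symm.le
      · obtain ⟨i, -, rfl⟩ := Finset.mem_image.1 hz
        refine Finset.mem_erase.2 ⟨fun e => hb ?_, Finset.mem_univ _⟩
        rw [hpow] at e
        calc b = ((x₀ : G) ^ i)⁻¹ • a := by rw [← e, inv_smul_smul]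
          _ = a := ha _ (inv_mem (pow_mem x₀.2 i))
      · rw [Finset.card_erase_of_mem (Finset.mem_univ a), Finset.card_univ, h.deg, ← he,
          Finset.card_image_of_injOn, Finset.card_range]
        intro i hi j hj hij
        simp only [Finset.coe_range, Set.mem_Iio] at hi hj
        simp only [hpow] at hij
        refine pow_injOn_Iio_orderOf (x := (x₀ : G)) (by simpa [ho] using hi)
          (by simpa [ho] using hj) ?_
        by_contra hne
        refine hb (h.fix_unique (mul_mem (inv_mem (pow_mem x₀.2 i)) (pow_mem x₀.2 j))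
          (fun e => hne (inv_mul_eq_one.1 e)) ?_ (ha _ (mul_mem (inv_mem (pow_mem x₀.2 i))
            (pow_mem x₀.2 j))))
        rw [mul_smul, ← hij, inv_smul_smul]
    obtain ⟨i, -, hi⟩ := Finset.mem_image.1 (hle (Finset.mem_erase.2 ⟨hc, Finset.mem_univ _⟩))
    exact ⟨i, hi⟩
  have hcyc : f.IsCycle := ⟨b, (hmoved b).2 hb, fun c hc => by
    obtain ⟨i, hi⟩ := hsurj c ((hmoved c).1 hc)
    exact ⟨i, by rw [zpow_natCast, hi]⟩⟩
  have hsupp : f.support = Finset.univ.erase a := by
    ext c
    simp [Equiv.Perm.mem_support, hmoved]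
  have hodd : Equiv.Perm.sign f = -1 := by
    rw [hcyc.sign, hsupp, Finset.card_erase_of_mem (Finset.mem_univ a), Finset.card_univ, h.deg,
      ← he, heven.neg_one_pow]
  let sg : G →* ℤˣ := Equiv.Perm.sign.comp G.subtype
  rcases sg.normal_ker.eq_bot_or_eq_top with e | e
  · exact h.not_solvable (solvable_of_solvable_injective ((MonoidHom.ker_eq_bot_iff sg).1 e))
  · have h1 : sg (x₀ : G) = 1 := MonoidHom.mem_ker.1 (e ▸ Subgroup.mem_top _)
    exact absurd (hodd.symm.trans h1) (by decide)

/-- An even complement forces `p = 5` and `|G| = 60`. -/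
theorem Hyp.even_case [IsSimpleGroup G] (heven : Even (Nat.card E)) :
    p = 5 ∧ Nonempty (G ≃* Matrix.ProjectiveSpecialLinearGroup (Fin 2) (ZMod 5)) := by
  have := Fintype.ofFinite G
  have hp : p.Prime := Fact.out
  obtain ⟨a, ha⟩ := h.exists_point
  obtain ⟨t, htE, hto, htc⟩ := h.exists_central_invol heven
  have ht1 : t ≠ 1 := fun e => by rw [e, orderOf_one] at hto; omega
  have hGcard := h.card_conj htc (K := ⊤) le_top
  have hHcard := h.card_conj htc (K := stabilizer G a) (h.NE_le ha)
  set Cl := conjSet t (⊤ : Subgroup G) with hCl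
  set ClH := conjSet t (stabilizer G a) with hClH
  have htsq : t * t = 1 := by rw [← pow_two, ← hto, pow_orderOf_eq_one]
  have hmemCl : ∀ g, g ∈ Cl ↔ ∃ k : G, k * t * k⁻¹ = g := fun g => by simp [hCl, mem_conjSet]
  have hClsq : ∀ g ∈ Cl, g * g = 1 := fun g hg => by
    obtain ⟨k, rfl⟩ := (hmemCl g).1 hg
    rw [show k * t * k⁻¹ * (k * t * k⁻¹) = k * (t * t) * k⁻¹ by group, htsq, mul_one, mul_inv_cancel]
  have hClfix : ∀ g ∈ Cl, g • a = a → ∀ c, g • c = c → c = a := fun g hg hga c hgc => by
    obtain ⟨k, rfl⟩ := (hmemCl g).1 hg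
    have hf : ∀ d, (k * t * k⁻¹) • d = d → k⁻¹ • d = a := fun d hd => by
      refine h.fix_unique htE ht1 ?_ (ha t htE)
      rw [mul_smul, mul_smul] at hd
      conv_rhs => rw [← hd, inv_smul_smul]
    exact MulAction.injective k⁻¹ ((hf c hgc).trans (hf a hga).symm)
  have hClH' : ClH = Cl.filter fun g => g • a = a := by
    ext g
    simp only [hClH, mem_conjSet, Finset.mem_filter,
      mem_stabilizer_iff, hmemCl]
    constructor
    · rintro ⟨k, hk, rfl⟩
      refine ⟨⟨k, rfl⟩, ?_⟩
      rw [mul_smul, mul_smul, inv_smul_eq_iff.2 hk.symm, ha t htE, hk]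
    · rintro ⟨⟨k, rfl⟩, hg⟩
      refine ⟨k, ?_, rfl⟩
      have hk : k⁻¹ • a = a := by
        refine h.fix_unique htE ht1 ?_ (ha t htE)
        rw [mul_smul, mul_smul] at hg
        conv_rhs => rw [← hg, inv_smul_smul]
      exact (inv_smul_eq_iff.1 hk).symm
  -- `|Cl| = p |ClH|`
  have hClcard : Cl.card = p * ClH.card := by
    rw [Subgroup.card_top, h.card_eq a, hHcard] at hGcard
    refine Nat.eq_of_mul_eq_mul_left (Nat.mul_pos two_pos (Nat.card_pos (α := E))) ?_
    rw [← hGcard]
    ring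
  -- the elements mapping `a` to `c`
  have hmove : ∀ c c' : α, c ≠ a → c' ≠ a → ∃ k : G, k • a = a ∧ k • c = c' := fun c c' hc hc' =>
    h.exists_pair heven (Ne.symm hc) (Ne.symm hc')
  have hSc : ∀ c ≠ a, (Cl.filter fun g => g • a = c).card = ClH.card := by
    intro c hc
    have hsum := Finset.card_eq_sum_card_fiberwise (s := Cl) (t := Finset.univ)
      (f := fun g : G => g • a) (fun _ _ => Finset.mem_univ _)
    rw [← Finset.add_sum_erase _ _ (Finset.mem_univ a), ← hClH',
      Finset.sum_congr rfl (g := fun _ => (Cl.filter fun g => g • a = c).card) fun c' hc' => ?_,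
      Finset.sum_const, smul_eq_mul, Finset.card_erase_of_mem (Finset.mem_univ a),
      Finset.card_univ, h.deg, hClcard] at hsum
    · have h1 : (p - 1) * (Cl.filter fun g => g • a = c).card = (p - 1) * ClH.card := by
        rw [Nat.sub_mul p 1 ClH.card, one_mul]
        omega
      exact Nat.eq_of_mul_eq_mul_left (Nat.sub_pos_of_lt hp.one_lt) h1
    · obtain ⟨k, hka, hkc⟩ := hmove c' c (Finset.mem_erase.1 hc').1 hc
      refine Finset.card_bij' (fun g _ => k * g * k⁻¹) (fun g _ => k⁻¹ * g * k) ?_ ?_ ?_ ?_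
      · intro g hg
        simp only [Finset.mem_filter, hmemCl] at hg ⊢
        obtain ⟨⟨m, rfl⟩, hg⟩ := hg
        refine ⟨⟨k * m, by group⟩, ?_⟩
        rw [mul_smul, mul_smul, inv_smul_eq_iff.2 hka.symm, hg, hkc]
      · intro g hg
        simp only [Finset.mem_filter, hmemCl] at hg ⊢
        obtain ⟨⟨m, rfl⟩, hg⟩ := hg
        refine ⟨⟨k⁻¹ * m, by group⟩, ?_⟩
        rw [mul_smul, mul_smul, hka, hg, ← hkc, inv_smul_smul]
      · intro g _; group
      · intro g _; group
  set D : α → Finset G := fun c => Finset.univ.filter fun g : G => g • a = a ∧ g • c = c with hD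
  have hDone : ∀ c, (1 : G) ∈ D c := fun c => by simp [hD]
  have hHD : ∀ c ≠ a, Nat.card (stabilizer G a) = (p - 1) * (D c).card := by
    intro c hc
    rw [← card_filter_mem (stabilizer G a), Finset.card_eq_sum_card_fiberwise
      (f := fun g : G => g • c) (t := Finset.univ.erase a) (fun g hg => ?_),
      Finset.sum_const_nat (m := (D c).card) ?_, Finset.card_erase_of_mem (Finset.mem_univ a),
      Finset.card_univ, h.deg]
    · intro c' hc'
      obtain ⟨k, hka, hkc⟩ := hmove c c' hc (Finset.mem_erase.1 hc').1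
      refine Finset.card_bij' (fun g _ => k⁻¹ * g) (fun g _ => k * g) ?_ ?_ ?_ ?_
      · intro g hg
        simp only [hD, Finset.mem_filter, Finset.mem_univ, true_and, mem_stabilizer_iff] at hg ⊢
        exact ⟨by rw [mul_smul, hg.1, inv_smul_eq_iff, hka],
          by rw [mul_smul, hg.2, inv_smul_eq_iff, hkc]⟩
      · intro g hg
        simp only [hD, Finset.mem_filter, Finset.mem_univ, true_and, mem_stabilizer_iff] at hg ⊢
        exact ⟨by rw [mul_smul, hg.1, hka], by rw [mul_smul, hg.2, hkc]⟩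
      · intro g _; exact mul_inv_cancel_left _ _
      · intro g _; exact inv_mul_cancel_left _ _
    · simp only [Finset.mem_coe, Finset.mem_filter, Finset.mem_univ, true_and, mem_stabilizer_iff,
        Finset.mem_erase, and_true] at hg ⊢
      intro e
      exact hc (MulAction.injective g (e.trans hg.symm))
  have hDpos : ∀ c, 0 < (D c).card := fun c => Finset.card_pos.2 ⟨1, hDone c⟩
  -- the elements interchanging `a` and `c`
  set Sw : α → Finset G := fun c => Finset.univ.filter fun g : G => g • a = c ∧ g • c = a with hSw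
  have hsub : ∀ c, (Cl.filter fun g => g • a = c) ⊆ Sw c := fun c g hg => by
    simp only [hSw, Finset.mem_filter, Finset.mem_univ, true_and] at hg ⊢
    refine ⟨hg.2, ?_⟩
    rw [← hg.2, smul_smul, hClsq g hg.1, one_smul]
  have hSwle : ∀ c, (Sw c).card ≤ (D c).card := by
    intro c
    rcases (Sw c).eq_empty_or_nonempty with e | ⟨τ, hτ⟩
    · rw [e, Finset.card_empty]; exact Nat.zero_le _
    · simp only [hSw, Finset.mem_filter, Finset.mem_univ, true_and] at hτ
      refine Finset.card_le_card_of_injOn (fun g => τ⁻¹ * g) (fun g hg => ?_)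
        (fun x _ y _ e => mul_left_cancel e)
      simp only [hSw, hD, Finset.mem_coe, Finset.mem_filter, Finset.mem_univ, true_and] at hg ⊢
      exact ⟨by rw [mul_smul, hg.1, inv_smul_eq_iff, hτ.1],
        by rw [mul_smul, hg.2, inv_smul_eq_iff, hτ.2]⟩
  obtain ⟨c₀, hc₀⟩ : ∃ c, c ≠ a := by
    obtain ⟨u, v, huv⟩ := Fintype.exists_pair_of_one_lt_card (h.deg ▸ hp.one_lt)
    by_cases hu : u = a
    · exact ⟨v, fun e => huv (hu.trans e.symm)⟩
    · exact ⟨u, hu⟩
  -- `p - 1 = 2e`
  have h2e : p - 1 = 2 * Nat.card E := by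
    have h1 : ClH.card ≤ (D c₀).card :=
      (hSc c₀ hc₀) ▸ (Finset.card_le_card (hsub c₀)).trans (hSwle c₀)
    have h2 : (p - 1) * (D c₀).card = 2 * Nat.card E * ClH.card := (hHD c₀ hc₀).symm.trans hHcard
    have h3 : p - 1 ≤ 2 * Nat.card E :=
      Nat.le_of_mul_le_mul_right (h2.trans_le (Nat.mul_le_mul_left _ h1)) (hDpos c₀)
    obtain ⟨k, hk⟩ := h.cyclic.2
    have h4 := h.card_ne ha heven
    have h5 : 0 < p - 1 := Nat.sub_pos_of_lt hp.one_lt
    rcases k with _ | _ | _ | k
    · omega
    · omega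
    · omega
    · rw [hk] at h3
      have := Nat.le_of_mul_le_mul_right (a := k + 1 + 1 + 1) (b := 2) (c := Nat.card E)
        (by linarith) Nat.card_pos
      omega
  have hDcard : ∀ c ≠ a, (D c).card = ClH.card := fun c hc => by
    have h2 : (p - 1) * (D c).card = 2 * Nat.card E * ClH.card := (hHD c hc).symm.trans hHcard
    rw [h2e] at h2
    exact Nat.eq_of_mul_eq_mul_left (Nat.mul_pos two_pos Nat.card_pos) h2
  have hSwCl : ∀ c ≠ a, ∀ g ∈ Sw c, g * g = 1 := fun c hc g hg => by
    have he : (Cl.filter fun g => g • a = c) = Sw c := Finset.eq_of_subset_of_card_le (hsub c)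
      (by rw [hSc c hc, ← hDcard c hc]; exact hSwle c)
    rw [← he, Finset.mem_filter] at hg
    exact hClsq g hg.1
  -- the two point stabilisers are abelian and regular
  have hreg : ∀ c ≠ a, ∀ b, b ≠ a → b ≠ c → ∀ d ∈ D c, d • b = b → d = 1 := by
    intro c hc b hba hbc d hd hdb
    obtain ⟨τ, hτ⟩ : ∃ τ, τ ∈ Sw c := by
      obtain ⟨g, hga, hgc⟩ := h.exists_pair heven (a := a) (b := c) (a' := c) (b' := a)
        (Ne.symm hc) hc
      exact ⟨g, by simp [hSw, hga, hgc]⟩
    have hinv : ∀ x ∈ D c, τ * x * τ = x⁻¹ := by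
      intro x hx
      have h1 := hSwCl c hc (τ * x) (by
        simp only [hSw, hD, Finset.mem_filter, Finset.mem_univ, true_and] at hτ hx ⊢
        exact ⟨by rw [mul_smul, hx.1, hτ.1], by rw [mul_smul, hx.2, hτ.2]⟩)
      refine eq_inv_of_mul_eq_one_left ?_
      rw [mul_assoc, mul_assoc]
      exact (mul_assoc τ x (τ * x)).symm.trans h1
    have hτ2 := hSwCl c hc τ hτ
    have hcomm : ∀ x ∈ D c, ∀ y ∈ D c, x * y = y * x := by
      intro x hx y hy
      have hxy : x * y ∈ D c := by
        simp only [hD, Finset.mem_filter, Finset.mem_univ, true_and] at hx hy ⊢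
        exact ⟨by rw [mul_smul, hy.1, hx.1], by rw [mul_smul, hy.2, hx.2]⟩
      have h1 := hinv _ hxy
      have h2 : x⁻¹ * y⁻¹ = τ * (x * y) * τ := by
        rw [← hinv x hx, ← hinv y hy, show τ * x * τ * (τ * y * τ) = τ * x * (τ * τ) * y * τ by group,
          hτ2, mul_one, mul_assoc τ x y]
      rw [h1, _root_.mul_inv_rev] at h2
      exact inv_injective (by rw [_root_.mul_inv_rev, _root_.mul_inv_rev, h2])
    have hd' : d • a = a ∧ d • c = c := by simpa [hD] using hd
    refine Subtype.ext (Equiv.ext fun z => ?_)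
    show d • z = z
    by_cases hza : z = a
    · rw [hza, hd'.1]
    by_cases hzc : z = c
    · rw [hzc, hd'.2]
    obtain ⟨g, hga, hgc, hgb⟩ := h.exists_triple heven (Ne.symm hc) (Ne.symm hba) (Ne.symm hbc)
      (Ne.symm hc) (Ne.symm hza) (Ne.symm hzc)
    rw [← hgb, smul_smul, hcomm d hd g (by simp [hD, hga, hgc]), mul_smul, hdb]
  have hD2 : ∀ c ≠ a, (D c).card = p - 2 := by
    intro c hc
    obtain ⟨b, hb⟩ : ((Finset.univ.erase a).erase c).Nonempty := by
      rw [← Finset.card_pos, Finset.card_erase_of_mem (Finset.mem_erase.2 ⟨hc, Finset.mem_univ _⟩),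
        Finset.card_erase_of_mem (Finset.mem_univ a), Finset.card_univ, h.deg]
      have := h.three_le
      omega
    have hb' : b ≠ c ∧ b ≠ a := ⟨(Finset.mem_erase.1 hb).1,
      (Finset.mem_erase.1 (Finset.mem_erase.1 hb).2).1⟩
    have he : (D c).image (fun g => g • b) = (Finset.univ.erase a).erase c := by
      ext z
      simp only [Finset.mem_image, Finset.mem_erase, Finset.mem_univ, and_true, hD,
        Finset.mem_filter, true_and]
      constructor
      · rintro ⟨g, ⟨hga, hgc⟩, rfl⟩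
        exact ⟨fun e => hb'.1 (MulAction.injective g (e.trans hgc.symm)),
          fun e => hb'.2 (MulAction.injective g (e.trans hga.symm))⟩
      · rintro ⟨hzc, hza⟩
        obtain ⟨g, hga, hgc, hgb⟩ := h.exists_triple heven (Ne.symm hc) (Ne.symm hb'.2)
          (Ne.symm hb'.1) (Ne.symm hc) (Ne.symm hza) (Ne.symm hzc)
        exact ⟨g, ⟨hga, hgc⟩, hgb⟩
    rw [← Finset.card_image_of_injOn (f := fun g : G => g • b) (s := D c) ?_, he,
      Finset.card_erase_of_mem (Finset.mem_erase.2 ⟨hc, Finset.mem_univ _⟩),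
      Finset.card_erase_of_mem (Finset.mem_univ a), Finset.card_univ, h.deg]
    · omega
    intro x hx y hy hxy
    simp only [hD, Finset.coe_filter, Finset.mem_univ, true_and, Set.mem_setOf_eq] at hx hy
    refine inv_mul_eq_one.1 (hreg c hc b hb'.2 hb'.1 _ (by
      simp only [hD, Finset.mem_filter, Finset.mem_univ, true_and]
      exact ⟨by rw [mul_smul, hy.1, inv_smul_eq_iff, hx.1],
        by rw [mul_smul, hy.2, inv_smul_eq_iff, hx.2]⟩) ?_)
    rw [mul_smul, ← (show x • b = y • b from hxy), inv_smul_smul]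
  have hClHcard : ClH.card = p - 2 := (hDcard c₀ hc₀).symm.trans (hD2 c₀ hc₀)
  -- the fixed-point-free elements of the stabiliser
  set F := (Finset.univ.filter fun g : G => g ∈ stabilizer G a).filter
    (fun g => g ≠ 1 ∧ ∀ c ≠ a, g • c ≠ c) with hF
  set B := (Finset.univ.erase a).biUnion fun c => (D c).erase 1 with hB
  have hBcard : B.card = (p - 1) * (p - 3) := by
    rw [hB, Finset.card_biUnion, Finset.sum_const_nat (m := p - 3) fun c hc => by
      rw [Finset.card_erase_of_mem (hDone c), hD2 c (Finset.mem_erase.1 hc).1]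
      omega, Finset.card_erase_of_mem (Finset.mem_univ a), Finset.card_univ, h.deg]
    intro c hc c' hc' hne
    refine Finset.disjoint_left.2 fun g hg hg' => (Finset.mem_erase.1 hg).1 ?_
    have h1 := Finset.mem_of_mem_erase hg'
    simp only [hD, Finset.mem_filter, Finset.mem_univ, true_and] at h1
    exact hreg c (Finset.mem_erase.1 hc).1 c' (Finset.mem_erase.1 hc').1 (Ne.symm hne) g
      (Finset.mem_of_mem_erase hg) h1.2
  have hFsub : F ⊆ ((Finset.univ.filter fun g : G => g ∈ stabilizer G a).erase 1) \ B := by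
    intro g hg
    simp only [hF, hB, hD, Finset.mem_filter, Finset.mem_univ, true_and, Finset.mem_sdiff,
      Finset.mem_erase, Finset.mem_biUnion, mem_stabilizer_iff, not_exists, not_and] at hg ⊢
    exact ⟨⟨hg.2.1, hg.1⟩, fun c hc _ _ e => hg.2.2 c hc.1 e⟩
  have hFcard : F.card ≤ p - 2 := by
    refine (Finset.card_le_card hFsub).trans ?_
    rw [Finset.card_sdiff_of_subset ?_, Finset.card_erase_of_mem (by simp), card_filter_mem,
      hBcard, hHD c₀ hc₀, hD2 c₀ hc₀]
    · obtain ⟨m, hm⟩ : ∃ m, p = m + 3 := ⟨p - 3, by have := h.three_le; omega⟩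
      subst hm
      simp only [Nat.add_sub_cancel, show m + 3 - 1 = m + 2 by omega,
        show m + 3 - 2 = m + 1 by omega]
      rw [show (m + 2) * (m + 1) = (m + 2) * m + (m + 2) by ring]
      omega
    intro g hg
    simp only [hB, hD, Finset.mem_biUnion, Finset.mem_erase, Finset.mem_filter, Finset.mem_univ,
      true_and, and_true, mem_stabilizer_iff] at hg ⊢
    obtain ⟨c, -, hg1, hga, -⟩ := hg
    exact ⟨hg1, hga⟩
  have hClF : ClH ⊆ F := fun g hg => by
    rw [hClH', Finset.mem_filter] at hg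
    simp only [hF, Finset.mem_filter, Finset.mem_univ, true_and, mem_stabilizer_iff]
    refine ⟨hg.2, fun e => ?_, fun c hc e => hc (hClfix g hg.1 hg.2 c e)⟩
    exact hc₀ (hClfix g hg.1 hg.2 c₀ (by rw [e, one_smul]))
  have hFeq : ClH = F := Finset.eq_of_subset_of_card_le hClF (hClHcard ▸ hFcard)
  have hEsq : ∀ x ∈ E, x * x = 1 := fun x hx => by
    by_cases hx1 : x = 1
    · rw [hx1, one_mul]
    · have h1 : x ∈ F := by
        simp only [hF, Finset.mem_filter, Finset.mem_univ, true_and, mem_stabilizer_iff]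
        exact ⟨ha x hx, hx1, fun c hc e => hc (h.fix_unique hx hx1 e (ha x hx))⟩
      rw [← hFeq, hClH', Finset.mem_filter] at h1
      exact hClsq x h1.1
  have hE2 : Nat.card E = 2 := by
    have := h.cyclic.1
    obtain ⟨g₀, hg₀⟩ := IsCyclic.exists_generator (α := E)
    have h1 : orderOf g₀ ∣ 2 := orderOf_dvd_of_pow_eq_one (Subtype.ext (by
      rw [pow_two]; exact hEsq g₀ g₀.2))
    rw [orderOf_eq_card_of_forall_mem_zpowers hg₀] at h1
    have := Nat.le_of_dvd two_pos h1
    have := h.one_lt_card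
    omega
  have hp5 : p = 5 := by have := hp.two_le; omega
  subst hp5
  refine ⟨rfl, ConstFour.Recog.psl_two_five ?_⟩
  rw [h.card_eq a, hHD c₀ hc₀, hD2 c₀ hc₀]

end Cfsg.Agent.UniqueP
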